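import Cfsg.Agent.SM.Co.Lin

/-!
# SM (S3570), the row `Sp₂₂(2) < Ω₂₄⁺(2)`: at most 8 cyclic groups `⟨y⟩` (helper32)
-/

set_option autoImplicit false
set_option linter.unusedSectionVars false

namespace Cfsg.Agent.SM.Co

open Cfsg Subgroup MulAction

variable {S V : Type} [Group S] [AddCommGroup V] [DistribMulAction S V] {Q : V → ZMod 2}

/-- the data in the stabiliser of `v` -/
structure Dt (x a e : S) (v : V) : Prop where
  ox : orderOf x = 11
  oa : orderOf a = 2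
  oe : orderOf e = 5
  xa : Commute x a
  ex : e * x * e⁻¹ ∈ zpowers x
  ea : Commute e a
  nc : ¬ Commute e x
  xv : x • v = v
  av : a • v = v
  ev : e • v = v

/-- the candidates -/
structure Yy (V : Type) [AddCommGroup V] [DistribMulAction S V] (x a e y : S) : Prop extends Sm V a y where
  xy : Commute y x
  ey : Commute y e

/-- the complement of the fixed points of `x` in those of `a` -/
def Wc (Q : V → ZMod 2) (h : Sp S V Q) (x a : S) : AddSubgroup V where
  carrier := {p | a • p = p ∧ ∀ u, x • u = u → pol Q u p = 0}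
  add_mem' {p r} hp hr := ⟨(fx V a).add_mem hp.1 hr.1, fun u hu => by rw [h.add', hp.2 u hu, hr.2 u hu, add_zero]⟩
  zero_mem' := ⟨smul_zero a, fun u _ => by rw [pol_comm, h.zero_left]⟩
  neg_mem' {p} hp := by rwa [neg_eq_of_add_eq_zero_right (h.two p)]

namespace Sp

variable (h : Sp S V Q) {x a e y z : S} {v : V}
include h

theorem cube (m : Sm V a y) (w : V) : y • y • y • w = w := by
  rw [m.cub, m.cub, add_right_comm, h.two, zero_add]

theorem Yy.sq (m : Yy V x a e y) : Yy V x a e (y * y) where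
  two := m.two
  cub w := by rw [mul_smul, mul_smul, h.cube m.toSm, m.cub, add_assoc, h.two, add_zero]
  inv w := by rw [mul_smul, m.inv, m.inv, mul_smul, mul_smul]
  xy := m.xy.mul_left m.xy
  ey := m.ey.mul_left m.ey

variable (d : Dt x a e v) (hv : Q v = 1) (m : Yy V x a e y)
include d

theorem x11 : x ^ 11 = 1 := by rw [← d.ox, pow_orderOf_eq_one]

theorem w_fpf {p : V} (hp : p ∈ Wc Q h x a) (hx : x • p = p) : p = 0 := h.nd p fun w => by
  rw [← h.pol_tr (n := 11) (by decide) hx, pol_comm, hp.2 _ (tr_fix (h.x11 d) w)]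

theorem w_x (p : V) (hp : p ∈ Wc Q h x a) : x • p ∈ Wc Q h x a :=
  ⟨comm_fix d.xa hp.1, fun u hu => by rw [← hu, h.pinv, hp.2 u hu]⟩

theorem w_e (p : V) (hp : p ∈ Wc Q h x a) : e • p ∈ Wc Q h x a :=
  ⟨comm_fix d.ea hp.1, fun u hu => by
    have h1 : (e * x * e⁻¹) • u = u := zpowers_le.2 (show x ∈ stabilizer S u from hu) d.ex
    rw [← smul_inv_smul e u, h.pinv, hp.2 _ (by rw [eq_inv_smul_iff, ← mul_smul, ← mul_smul, h1])]⟩

theorem tr_u {p : V} (hp : a • p = p) : tr x 11 p ∈ fx V a ⊓ fx V x :=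
  ⟨tr_mem (W := fx V a) (fun _ hw => comm_fix d.xa hw) 11 hp, tr_fix (h.x11 d) p⟩

theorem w_tr {p : V} (hp : a • p = p) : p + tr x 11 p ∈ Wc Q h x a :=
  ⟨(fx V a).add_mem hp (h.tr_u d hp).1, fun u hu => by rw [h.add', h.pol_tr (by decide) hu, z2add]⟩

include m

theorem not_all (h1 : ∀ p : V, a • p = p → x • p = p) : False := by
  have h2 := h.faith x fun w => by
    obtain ⟨p, r, hp, hr, rfl⟩ := h.sm_dec m.toSm w
    rw [smul_add, h1 r hr, comm_fix m.xy (h1 p hp)]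
  have h3 := d.ox
  rw [h2, orderOf_one] at h3
  omega

theorem card_u : Nat.card (fx V a ⊓ fx V x : AddSubgroup V) = 4 := by
  have := h.finV
  have h1 := cong' (by norm_num) (h.x11 d) (W := fx V a) fun _ hw => comm_fix d.xa hw
  obtain ⟨k, hk, h2⟩ := h.card_pow (fx V a ⊓ fx V x)
  have h3 := AddSubgroup.card_le_of_le (inf_le_left : fx V a ⊓ fx V x ≤ _)
  have h4 := h.sm_card m.toSm
  rw [h2, h4] at h1 h3
  rcases (by decide : ∀ k ≤ 24, 2 ^ 12 ≡ 2 ^ k [MOD 11] → k = 2 ∨ k = 12 ∨ k = 22) k hk h1 with rfl | rfl | rfl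
  · exact h2
  · have h5 : fx V a ⊓ fx V x = fx V a := AddSubgroup.eq_of_le_of_card_ge inf_le_left (by rw [h2, h4])
    exact (h.not_all d m fun p hp => (h5.ge hp).2).elim
  · omega

theorem card_sub {E : AddSubgroup V} (hE : E ≤ Wc Q h x a) (hx : ∀ p ∈ E, x • p ∈ E) (h0 : E ≠ ⊥) : Nat.card E = 2 ^ 10 := by
  have := h.finV
  have h1 := cong1 (by norm_num) (h.x11 d) hx fun p hp => h.w_fpf d (hE hp)
  obtain ⟨k, hk, h2⟩ := h.card_pow E
  have h3 := AddSubgroup.card_le_of_le (show E ≤ fx V a from fun p hp => (hE hp).1)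
  rw [h2] at h1
  rw [h2, h.sm_card m.toSm] at h3
  rcases (by decide : ∀ k ≤ 24, 2 ^ k ≡ 1 [MOD 11] → k = 0 ∨ k = 10 ∨ k = 20) k hk h1 with rfl | rfl | rfl
  · exact (h0 (AddSubgroup.card_eq_one.1 h2)).elim
  · exact h2
  · omega

theorem card_w : Nat.card (Wc Q h x a) = 2 ^ 10 := h.card_sub d m le_rfl (h.w_x d) fun h0 => h.not_all d m fun p hp => by
  have h1 := h.cancel (AddSubgroup.mem_bot.1 (h0 ▸ h.w_tr d hp))
  rw [h1]
  exact tr_fix (h.x11 d) p

theorem card_c : Nat.card (Wc Q h x a ⊓ fx V e : AddSubgroup V) = 4 := by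
  have := h.finV
  have := h.fin
  have h1 := cong' (p := 5) (by norm_num) (by rw [← d.oe, pow_orderOf_eq_one]) (h.w_e d)
  obtain ⟨k, hk, h2⟩ := h.card_pow (Wc Q h x a ⊓ fx V e)
  have h3 : ∀ c ∈ Wc Q h x a ⊓ fx V e, e • x • c = x • c → c = 0 := fun c hc h4 => by
    obtain ⟨i, hi⟩ := (mem_powers_iff_mem_zpowers (x := x)).2 (mul_mem (inv_mem (mem_zpowers x)) d.ex)
    have hi' : x ^ i = x⁻¹ * (e * x * e⁻¹) := hi
    have h5 : x ^ i • c = c := by
      rw [hi', mul_smul, mul_smul, mul_smul, inv_smul_eq_iff.2 (Eq.symm hc.2), h4, inv_smul_smul]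
    obtain ⟨j, hj⟩ := exists_pow_eq_self_of_coprime (x := x) (n := i) (by
      rw [d.ox, Nat.coprime_comm, Nat.Prime.coprime_iff_not_dvd (by norm_num), ← d.ox, orderOf_dvd_iff_pow_eq_one, hi',
        inv_mul_eq_one, eq_mul_inv_iff_mul_eq]
      exact fun e' => d.nc e'.symm)
    exact h.w_fpf d hc.1 (by rw [← hj]; exact pow_fix h5 j)
  have h4 := Nat.card_le_card_of_injective
    (fun c : (Wc Q h x a ⊓ fx V e : AddSubgroup V) × (Wc Q h x a ⊓ fx V e : AddSubgroup V) =>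
      (⟨c.1.1 + x • c.2.1, add_mem c.1.2.1 (h.w_x d _ c.2.2.1)⟩ : Wc Q h x a)) fun c c' e' => by
      have e1 : c.1.1 + x • c.2.1 = c'.1.1 + x • c'.2.1 := congrArg Subtype.val e'
      have e2 : x • (c.2.1 - c'.2.1) = c'.1.1 - c.1.1 := by
        rw [smul_sub, sub_eq_sub_iff_add_eq_add, add_comm, e1]
      have e3 := sub_eq_zero.1 (h3 _ (sub_mem c.2.2 c'.2.2) (by rw [e2]; exact (sub_mem c'.1.2 c.1.2).2))
      rw [e3, add_left_inj] at e1
      exact Prod.ext (Subtype.ext e1) (Subtype.ext e3)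
  rw [Nat.card_prod, h.card_w d m, h2, ← pow_add] at h4
  rw [h.card_w d m, h2] at h1
  have h5 := (Nat.pow_le_pow_iff_right (by norm_num)).1 h4
  rw [h2, (by decide : ∀ k ≤ 5, 2 ^ 10 ≡ 2 ^ k [MOD 5] → k = 2) k (by omega) h1]
  rfl

theorem w_diff (n : Yy V x a e z) {p : V} (hp : p ∈ Wc Q h x a) : y • p + z • p ∈ Wc Q h x a := by
  have h1 : ∀ {t : S}, Yy V x a e t → ∀ u, x • u = u → pol Q u (t • p) = 0 := fun {t} ht u hu => by
    rw [← h.cube ht.toSm u, h.pinv, hp.2 _ (comm_fix ht.xy (comm_fix ht.xy hu))]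
  exact ⟨h.sm_diff m.toSm n.toSm hp.1, fun u hu => by rw [h.add', h1 m u hu, h1 n u hu, add_zero]⟩

include hv

theorem exists_u : ∃ u ∈ fx V a ⊓ fx V x, Q u = 1 ∧ pol Q (y • v) u = 0 ∧
    ∀ p ∈ fx V a ⊓ fx V x, p = 0 ∨ p = v ∨ p = u ∨ p = v + u := by
  classical
  have := h.finV
  have hvU : v ∈ fx V a ⊓ fx V x := ⟨d.av, d.xv⟩
  have h4 : ((fx V a ⊓ fx V x : AddSubgroup V) : Set V).ncard = 4 := h.card_u d m
  have q0 : ∀ {u : V}, Q u = 1 → u ≠ 0 := fun hu e' => by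
    rw [e', h.q_zero] at hu
    exact zero_ne_one hu
  obtain ⟨u, hu, hq, hne⟩ : ∃ u ∈ fx V a ⊓ fx V x, Q u = 1 ∧ u ≠ v := by
    obtain ⟨u, hu, h5⟩ := Set.exists_mem_notMem_of_ncard_lt_ncard (s := {0, v})
      (t := ((fx V a ⊓ fx V x : AddSubgroup V) : Set V)) (by rw [h4, Set.ncard_pair (q0 hv).symm]; norm_num)
    rw [Set.mem_insert_iff, Set.mem_singleton_iff, not_or] at h5
    rcases z2 (Q u) with e' | e'
    · exact ⟨v + u, add_mem hvU hu, by rw [q_add (Q := Q), hv, e', h.sm_iso m.toSm d.av hu.1]; rfl,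
        fun e'' => h5.1 (by rwa [add_eq_left] at e'')⟩
    · exact ⟨u, hu, e', h5.2⟩
  have h5 : ∀ p ∈ fx V a ⊓ fx V x, p = 0 ∨ p = v ∨ p = u ∨ p = v + u := by
    have h6 : ({0, v, u, v + u} : Set V) = (fx V a ⊓ fx V x : AddSubgroup V) := Set.eq_of_subset_of_ncard_le
      (by
        rintro p (rfl | rfl | rfl | rfl)
        exacts [zero_mem _, hvU, hu, add_mem hvU hu])
      (by
        rw [h4, Set.ncard_insert_of_notMem, Set.ncard_insert_of_notMem, Set.ncard_pair]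
        · exact fun e' => q0 hv (by rwa [right_eq_add] at e')
        · rintro (e' | e')
          · exact hne e'.symm
          · exact q0 hq (left_eq_add.1 e')
        · rintro (e' | e' | e')
          · exact q0 hv e'.symm
          · exact q0 hq e'.symm
          · exact hne (h.cancel (Eq.symm e')).symm)
    exact fun p hp => (h6.ge hp)
  refine ⟨u, hu, hq, (z2 _).resolve_right fun h6 => hne (h.cancel (h.sm_nd m.toSm (add_mem hvU hu).1 fun p hp => ?_)).symm, h5⟩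
  have h7 : pol Q (y • v) (v + u) = 0 := by rw [h.add', h.sm_q m.toSm, hv, h6]; rfl
  have h8 : pol Q (y • u) (v + u) = 0 := by rw [h.add', h.sm_q m.toSm, hq, h.sm_sym m.toSm hu.1 d.av, h6]; rfl
  rw [pol_comm, ← h.pol_tr (n := 11) (by decide) (add_mem hvU hu).2, tr_comm m.xy, pol_comm]
  rcases h5 _ (h.tr_u d hp) with e' | e' | e' | e' <;> rw [e']
  · rw [smul_zero, h.zero_left]
  · exact h7
  · exact h8
  · rw [smul_add, h.add, h7, h8, add_zero]

/-- **the count** -/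
theorem lin : ∃ C : Set S, C.ncard ≤ 8 ∧ ∀ z, Yy V x a e z → z ∈ C ∨ z * z ∈ C := by
  have := h.finV
  obtain ⟨u, hu, hq, h1, h2⟩ := h.exists_u d hv m
  have hvU : v ∈ fx V a ⊓ fx V x := ⟨d.av, d.xv⟩
  have h3 : ∀ {z : S}, Yy V x a e z → ∀ {p r : V}, p ∈ fx V a ⊓ fx V x → Q p = 1 → Q r = 1 → a • r = r → pol Q (y • p) r = 0 →
      (∀ c ∈ fx V a ⊓ fx V x, c = 0 ∨ c = p ∨ c = r ∨ c = p + r) → y • p + z • p = 0 ∨ y • p + z • p = p :=
    fun {z} n {p r} hp q1 q2 hr h4 h5 => by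
      have h6 := h.sm_dq m.toSm n.toSm p
      rcases h5 (y • p + z • p) ⟨h.sm_diff m.toSm n.toSm hp.1, add_mem (comm_fix m.xy hp.2 : _ ∈ fx V x) (comm_fix n.xy hp.2)⟩
        with e' | e' | e' | e'
      · exact Or.inl e'
      · exact Or.inr e'
      · rw [e', q2, h4] at h6
        exact absurd h6 (by decide)
      · rw [e', q_add (Q := Q), q1, q2, h.sm_iso m.toSm hp.1 hr, h.add', h.sm_q m.toSm, q1, h4] at h6
        exact absurd h6 (by decide)
  have h4 : ((Wc Q h x a ⊓ fx V e : AddSubgroup V) : Set V).ncard = 4 := h.card_c d m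
  obtain ⟨w, hw, hw0⟩ := Set.exists_ne_of_one_lt_ncard (s := ((Wc Q h x a ⊓ fx V e : AddSubgroup V) : Set V))
    (by rw [h4]; norm_num) 0
  refine ⟨{z | Yy V x a e z ∧ y • v + z • v = 0}, ?_, fun z n => ?_⟩
  · refine (Set.ncard_le_ncard_of_injOn (t := ((Wc Q h x a ⊓ fx V e : AddSubgroup V) : Set V) ×ˢ ({0, u} : Set V))
      (fun z => (y • w + z • w, y • u + z • u)) (fun z n => ⟨⟨h.w_diff d m n.1 hw.1,
        add_mem (comm_fix m.ey hw.2 : _ ∈ fx V e) (comm_fix n.1.ey hw.2)⟩, h3 n.1 hu hq hv d.av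
          (by rw [h.sm_sym m.toSm hu.1 d.av, h1]) fun c hc => by rw [add_comm u v]; have := h2 c hc; tauto⟩)
      fun z n z' n' e' => ?_).trans ?_
    · have e1 : z • w = z' • w := add_left_cancel (congrArg Prod.fst e')
      have e2 : z • u = z' • u := add_left_cancel (congrArg Prod.snd e')
      have e3 : z • v = z' • v := add_left_cancel (n.2.trans n'.2.symm)
      let E : AddSubgroup V := Wc Q h x a ⊓
        (DistribSMul.toAddMonoidHom V z).eqLocus (DistribSMul.toAddMonoidHom V z')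
      have e4 : E = Wc Q h x a := AddSubgroup.eq_of_le_of_card_ge inf_le_left (by
        rw [h.card_w d m, h.card_sub d m (E := E) inf_le_left (fun p hp => ⟨h.w_x d p hp.1, show z • x • p = z' • x • p by
          rw [← mul_smul, n.1.xy.eq, mul_smul, show z • p = z' • p from hp.2, ← mul_smul, ← n'.1.xy.eq, mul_smul]⟩)
          fun e' => hw0 (AddSubgroup.mem_bot.1 (e' ▸ (⟨hw.1, e1⟩ : w ∈ E)))])
      refine h.sm_ext n.1.toSm n'.1.toSm fun p hp => ?_
      have e5 : z • (p + tr x 11 p) = z' • (p + tr x 11 p) := (e4.ge (h.w_tr d hp)).2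
      have e6 : z • tr x 11 p = z' • tr x 11 p := by
        rcases h2 _ (h.tr_u d hp) with e' | e' | e' | e' <;> rw [e']
        · rw [smul_zero, smul_zero]
        · exact e3
        · exact e2
        · rw [smul_add, smul_add, e2, e3]
      rwa [smul_add, smul_add, e6, add_left_inj] at e5
    · rw [Set.ncard_prod, h4]
      have := Set.ncard_insert_le (0 : V) {u}
      rw [Set.ncard_singleton] at this
      omega
  · rcases h3 n hvU hv hq hu.1 h1 h2 with e' | e'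
    · exact Or.inl ⟨n, e'⟩
    · exact Or.inr ⟨Yy.sq h n, by rw [mul_smul, n.cub, ← add_assoc, e', h.two]⟩

end Sp

end Cfsg.Agent.SM.Co
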