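import Cfsg.Agent.SM.Co.Fct

/-!
# SM (S3570), the row `Sp₂₂(2) < Ω₂₄⁺(2)`: the linear count as a box (helper32)
-/

set_option autoImplicit false

namespace Cfsg.Agent.SM.Co

open Cfsg Subgroup MulAction

/-- the polar form -/
def pol {V : Type} [AddCommGroup V] (Q : V → ZMod 2) (u v : V) : ZMod 2 := Q (u + v) + Q u + Q v

/-- `S` acts faithfully on the quadratic space `(V, Q)` of plus type and dimension 24 over the field with two elements -/
structure Sp (S V : Type) [Group S] [AddCommGroup V] [DistribMulAction S V] (Q : V → ZMod 2) : Prop where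
  fin : Finite S
  two : ∀ v : V, v + v = 0
  card : Nat.card V = 2 ^ 24
  add : ∀ u v w : V, pol Q (u + v) w = pol Q u w + pol Q v w
  nd : ∀ u : V, (∀ w, pol Q u w = 0) → u = 0
  cnt : Nat.card {v : V // Q v = 1} = 8386560
  inv : ∀ (s : S) (v : V), Q (s • v) = Q v
  faith : ∀ s : S, (∀ v : V, s • v = v) → s = 1

/-- the subgroups `Co₁` which are transitive on the non-singular vectors and have the stabiliser `A` -/
def Ovr {S V : Type} [Group S] [AddCommGroup V] [DistribMulAction S V] (Q : V → ZMod 2) (v : V) (A : Subgroup S) :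
    Set (Subgroup S) :=
  {B | Fct B ∧ B ⊓ stabilizer S v = A ∧ ∀ w : V, Q w = 1 → ∃ b ∈ B, b • v = w}

/-- [Co-Lin] at most 8 -/
def BoxLin : Prop :=
  ∀ (S V : Type) [Group S] [AddCommGroup V] [DistribMulAction S V] (Q : V → ZMod 2) (v : V) (A : Subgroup S),
    Sp S V Q → Q v = 1 → (Ovr Q v A).ncard ≤ 8

end Cfsg.Agent.SM.Co
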