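import Cfsg.Agent.TAB.Co1.Tab
import Cfsg.Agent.TAB.Eng.Map
import Cfsg.Agent.TAB.Use.Main
import Cfsg.Agent.SM.Alt.Co
import Cfsg.Agent.H713.B0R.CoOne
import Cfsg.Agent.H180.MElNum
import Cfsg.Agent.H529.MSev.RatExt

/-!
# SM (S3570), the row `Sp₂₂(2) < Ω₂₄⁺(2)`: the facts on `Co₁` (helper32)
-/

set_option autoImplicit false
set_option maxRecDepth 100000

namespace Cfsg.Agent.SM.Co

open Cfsg Subgroup MulAction Cfsg.Agent.TAB Cfsg.Agent.TAB.Eng Cfsg.Agent.TAB.Use

/-- what is used of `Co₁` -/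
structure Fct (B : Type) [Group B] : Prop where
  card : Nat.card B = 4157776806543360000
  c11 : ∀ x : B, orderOf x = 11 → Nat.card (centralizer (zpowers x : Set B)) = 66
  n11 : ∀ x : B, orderOf x = 11 → Nat.card (normalizer (zpowers x : Set B)) = 660
  n23 : ∀ x : B, orderOf x = 23 → Nat.card (normalizer (zpowers x : Set B)) = 253
  no66 : ∀ g : B, orderOf g ≠ 66
  three : ∀ x y : B, orderOf x = 11 → orderOf y = 3 → Commute x y → ∃ t : B, orderOf t = 13 ∧ Commute t y
  two : ∀ x s a : B, orderOf x = 11 → orderOf s = 2 → Commute x s → orderOf a = 2 → a * x * a⁻¹ = x⁻¹ →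
    IsConj s a ∨ ∃ t : B, orderOf t = 13 ∧ Commute t a
  idx : ∀ K : Subgroup B, K.index ≠ 24 ∧ K.index ≠ 2048

/-- the sign character of a dihedral group has a non-negative multiplicity -/
theorem dih {G : Type} [Group G] {χ : G → ℂ} (hχ : IsCharacter G χ) {x a : G} {n : ℕ} (hn : 0 < n) (hx : x ^ n = 1)
    (ha : a * a = 1) (hax : a * x * a⁻¹ = x⁻¹) :
    ∃ m : ℕ, ∑ i ∈ Finset.range n, χ (x ^ i) - ∑ i ∈ Finset.range n, χ (a * x ^ i) = 2 * n * m := by
  obtain ⟨d, ρ, rfl⟩ := hχ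
  set A : Module.End ℂ (Fin d → ℂ) := ∑ i ∈ Finset.range n, ρ (x ^ i) with hA
  have h1 : ρ x * A = A := by
    have h := Finset.sum_range_succ' (fun i => ρ (x ^ i)) n
    rw [Finset.sum_range_succ, hx, pow_zero, add_left_inj] at h
    rw [hA, Finset.mul_sum, h]
    exact Finset.sum_congr rfl fun i _ => by rw [← map_mul, pow_succ']
  have h2 : ∀ i, ρ (x ^ i) * A = A := fun i => by
    induction i with
    | zero => rw [pow_zero, map_one, one_mul]
    | succ i ih => rw [pow_succ, map_mul, mul_assoc, h1, ih]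
  have h3 : A * A = (n : ℂ) • A := by
    conv_lhs => rw [hA, Finset.sum_mul]
    rw [Finset.sum_congr rfl fun i _ => h2 i, Finset.sum_const, Finset.card_range, Nat.cast_smul_eq_nsmul]
  have h4 : ∀ i, ρ (x ^ i) * (ρ a * A) = ρ a * A := fun i => by
    have h5 : x ^ i * a = a * x ^ ((n - 1) * i) := by
      have h6 : x ^ (n - 1) = x⁻¹ := eq_inv_of_mul_eq_one_left (by rw [← pow_succ, Nat.sub_add_cancel hn, hx])
      have h7 : a * x⁻¹ * a⁻¹ = x := by simpa [mul_assoc] using congrArg Inv.inv hax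
      rw [pow_mul, h6, ← mul_inv_eq_iff_eq_mul.1 (show a * x⁻¹ ^ i * a⁻¹ = x ^ i by rw [← conj_pow, h7])]
    rw [← mul_assoc, ← map_mul, h5, map_mul, mul_assoc, h2]
  have h5 : A * (ρ a * A) = (n : ℂ) • (ρ a * A) := by
    conv_lhs => rw [hA, Finset.sum_mul]
    rw [Finset.sum_congr rfl fun i _ => h4 i, Finset.sum_const, Finset.card_range, Nat.cast_smul_eq_nsmul]
  have h6 : ρ a * ρ a = 1 := by rw [← map_mul, ha, map_one]
  have hn' : (n : ℂ) ≠ 0 := by exact_mod_cast hn.ne'
  obtain ⟨m, hm⟩ := H529.MSev.RatExt.trace_idem (T := (2 * n : ℂ)⁻¹ • (A - ρ a * A)) (by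
    rw [smul_mul_smul_comm, sub_mul, mul_sub, mul_sub, h3, h5, mul_assoc, mul_assoc, h3, h5, mul_smul_comm, mul_smul_comm,
      ← mul_assoc, h6, one_mul]
    match_scalars <;> field_simp <;> ring)
  refine ⟨m, ?_⟩
  rw [map_smul, map_sub, hA, Finset.mul_sum, map_sum, map_sum, smul_eq_mul, inv_mul_eq_iff_eq_mul₀ (by simpa using hn')] at hm
  rw [← hm]
  congr 1
  exact Finset.sum_congr rfl fun i _ => by rw [← map_mul]; rfl

theorem card_norm {G : Type} [Group G] [Finite G] {p n : ℕ} (hp : p.Prime) (h : (Nat.card G).factorization p = 1) {x : G}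
    (hx : orderOf x = p) (hn : Nat.card {g : G // orderOf g = p} * n = Nat.card G * (p - 1)) :
    ∃ P : Sylow p G, (P : Subgroup G) = zpowers x ∧ Nat.card (normalizer (zpowers x : Set G)) = n := by
  have : Fact p.Prime := ⟨hp⟩
  let P : Sylow p G := Sylow.ofCard (zpowers x) (by rw [Nat.card_zpowers, hx, h, pow_one])
  refine ⟨P, rfl, ?_⟩
  rw [H180.MEl.card_order_prime h, P.card_eq_index_normalizer, ← (normalizer (zpowers x : Set G)).card_mul_index] at hn
  have h1 : 0 < p - 1 := Nat.sub_pos_of_lt hp.one_lt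
  have h2 : 0 < (normalizer (zpowers x : Set G)).index := Nat.pos_of_ne_zero index_ne_zero_of_finite
  refine (Nat.eq_of_mul_eq_mul_right (Nat.mul_pos h2 h1) ?_).symm
  rw [← mul_assoc (Nat.card _), ← hn]
  show _ = (normalizer (zpowers x : Set G)).index * _ * _
  ring

theorem row_mk {G : Type} [Group G] {D : Dat} {T : TD G D} {A B : List (List ℤ)} {χ : ℕ → G → ℂ}
    (h : Rel T (Sm2.mkRows A B) χ) {j : ℕ} (hj : j < A.length) (g : G) :
    χ j g = (((Sm2.rw' A B j).getD (T.ty g) 0 : ℤ) : ℂ) :=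
  h.row (r := ([(j, 1)], Sm2.rw' A B j)) (List.mem_append_left _ (List.mem_map.2 ⟨j, List.mem_range.2 hj, rfl⟩)) rfl g

theorem idx_gen {G : Type} [Group G] [Finite G] {d : ℕ → ℕ} {χ : ℕ → G → ℂ} (hE : Enum G 101 d χ)
    (h0 : ∀ j < 101, d j = 1 → j = 0) (h9 : ∀ j < 101, 4 ≤ j → 2049 ≤ d j) (hd : d 1 = 276 ∧ d 2 = 299 ∧ d 3 = 1771) {g : G}
    (g1 : χ 1 g = ((1 : ℤ) : ℂ)) (g2 : χ 2 g = ((-1 : ℤ) : ℂ)) (g3 : χ 3 g = ((-4 : ℤ) : ℂ)) (K : Subgroup G) :
    K.index ≠ 24 ∧ K.index ≠ 2048 := by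
  obtain ⟨m, h2, h3, j, hj, h4, h6, h7⟩ := Alt.Co.perm_dec hE K
  obtain rfl := h0 j hj h6
  suffices h : K.index ≤ 2048 → K.index ≠ 24 ∧ K.index ≠ 2048 by omega
  intro h1
  have hz : ∀ j ∈ Finset.range 101, j ∉ Finset.range 4 → m j = 0 := fun j hj hj' => by
    have a1 : m j * d j ≤ K.index := h3 ▸
      Finset.single_le_sum (f := fun j => m j * d j) (fun _ _ => Nat.zero_le _) hj
    have a2 := h9 j (Finset.mem_range.1 hj) (by simpa using hj')
    by_contra a3
    have := Nat.mul_le_mul (Nat.pos_of_ne_zero a3) a2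
    omega
  have hs : Finset.range 4 ⊆ Finset.range 101 := Finset.range_subset_range.2 (by norm_num)
  rw [← Finset.sum_subset hs fun j hj hj' => by rw [hz j hj hj', Nat.zero_mul]] at h3
  have a1 := h2 g
  rw [← Finset.sum_subset hs fun j hj hj' => by rw [hz j hj hj', Nat.cast_zero, zero_mul]] at a1
  simp only [Finset.sum_range_succ, Finset.sum_range_zero, h7, h4, Pi.one_apply, h6, hd, g1, g2, g3] at a1 h3
  have a2 : ((Nat.card (fixedBy (G ⧸ K) g) + m 2 + 4 * m 3 : ℕ) : ℂ) = ((1 + m 1 : ℕ) : ℂ) := by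
    push_cast at a1 ⊢
    linear_combination a1
  have a3 := Nat.cast_injective (R := ℂ) a2
  omega

theorem lenA : Co1.RA.length = 97 := by decide +kernel

theorem fct {B : Type} [Group B] (hB : Spor.IsoCo1 B) : Fct B := by
  obtain ⟨T₀, hm₀, hr₀, -, hI₀, hT₀⟩ := Co1.tab
  have hB' := hB
  obtain ⟨e⟩ := hB'
  let T : TD B Co1.D := T₀.pull e
  have hm : T.Mass := mass_pull hm₀ e
  have hT : Use.Tab T Co1.RR := tab_pull hT₀ e
  have hN : Nat.card B = 4157776806543360000 := hm.1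
  have : Finite B := Nat.finite_of_card_ne_zero (by rw [hN]; norm_num)
  have hr : ∀ g h : B, T.ty g = T.ty h → ∃ k : ℕ, IsConj (g ^ k) h := fun g h hg => by
    obtain ⟨k, hk⟩ := hr₀ (e g) (e h) hg
    refine ⟨k, ?_⟩
    have := e.symm.toMonoidHom.map_isConj hk
    simpa using this
  have hI : ∀ i < 99, ∃ g : B, T.ty g = i := fun i hi => by
    obtain ⟨g, hg⟩ := hI₀ i hi
    exact ⟨e.symm g, by show T₀.ty (e (e.symm g)) = i; rw [e.apply_symm_apply, hg]⟩
  have o1 : ∀ {o i : ℕ}, (∀ t < 99, Co1.D.ord t = o ↔ t = i) → ∀ g : B, orderOf g = o ↔ T.ty g = i := fun h g => by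
    rw [T.ord g]
    exact h _ (T.lt g)
  have o11 := o1 (o := 11) (i := 43) (by decide +kernel)
  have o13 := o1 (o := 13) (i := 57) (by decide +kernel)
  have o22 := o1 (o := 22) (i := 76) (by decide +kernel)
  have o23 := o1 (o := 23) (i := 77) (by decide +kernel)
  have o33 := o1 (o := 33) (i := 92) (by decide +kernel)
  have cn : ∀ {o i : ℕ}, i < 99 → (∀ g : B, orderOf g = o ↔ T.ty g = i) → Nat.card {g : B // orderOf g = o} = Co1.D.cnt i :=
    fun hi h => (Nat.card_congr (Equiv.subtypeEquivRight h)).trans (hm.2 _ hi)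
  have fa : ∀ p : ℕ, p.Prime → p ∣ 4157776806543360000 → ¬ p ^ 2 ∣ 4157776806543360000 → (Nat.card B).factorization p = 1 :=
    fun p hp h1 h2 => by
      rw [hN]
      exact le_antisymm (not_lt.1 fun h => h2 ((hp.pow_dvd_iff_le_factorization (by norm_num)).2 h))
        ((hp.dvd_iff_one_le_factorization (by norm_num)).1 h1)
  have n11 := fun (x : B) (hx : orderOf x = 11) => card_norm (n := 660) (by norm_num)
    (fa 11 (by norm_num) (by norm_num) (by norm_num)) hx (by rw [cn (by norm_num) o11, hN]; decide +kernel)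
  -- an element of a type which is a power of an element of order `13 k`
  have th : ∀ (i j k : ℕ) (y : B), i < 99 → Co1.D.pwf i 13 = j → Co1.D.pwf i k = 57 → T.ty y = j →
      ∃ t : B, orderOf t = 13 ∧ Commute t y := fun i j k y hi h1 h2 hy => by
    obtain ⟨g, rfl⟩ := hI i hi
    obtain ⟨l, hl⟩ := hr (g ^ 13) y (by rw [T.pow, h1, hy])
    obtain ⟨c, rfl⟩ := isConj_iff.1 hl
    refine ⟨c * g ^ k * c⁻¹, (o13 _).2 (by rw [T.conj, T.pow, h2]), ?_⟩
    rw [← pow_mul]
    exact ((Commute.refl g).pow_pow k (13 * l)).map (MulAut.conj c)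
  obtain ⟨χ, hE, hR⟩ := hT
  have row : ∀ j < 97, ∀ g, χ j g = (((Sm2.rw' Co1.RA Co1.RB j).getD (T.ty g) 0 : ℤ) : ℂ) := fun j hj g =>
    row_mk hR (hj.trans_eq lenA.symm) g
  have hn : Co1.RR.n = 101 := by decide +kernel
  refine ⟨hN, fun x hx => ?_, fun x hx => (n11 x hx).choose_spec.2, fun x hx => (card_norm (n := 253) (by norm_num)
    (fa 23 (by norm_num) (by norm_num) (by norm_num)) hx (by rw [cn (by norm_num) o23, hN]; decide +kernel)).choose_spec.2,
    fun g hg => ?_, fun x y hx hy hc => ?_, fun x s a hx hs hc ha hax => ?_, fun K => ?_⟩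
  · obtain ⟨P, h1, h2⟩ := n11 x hx
    have h3 := H713.B0R.CoOne.e11 hB P
    rw [show (P : Set B) = (zpowers x : Set B) from congrArg SetLike.coe h1] at h3
    have h4 := ((centralizer (zpowers x : Set B)).subgroupOf (normalizer (zpowers x : Set B))).card_mul_index
    rw [Nat.card_congr (subgroupOfEquivOfLe (centralizer_le_normalizer _)).toEquiv, h2] at h4
    change _ * relIndex _ _ = _ at h4
    rw [h3] at h4
    omega
  · rw [T.ord g] at hg
    exact (by decide +kernel : ∀ t < 99, Co1.D.ord t ≠ 66) _ (T.lt g) hg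
  · have h1 : orderOf (x * y) = 33 := by rw [hc.orderOf_mul_eq_mul_orderOf_of_coprime (by rw [hx, hy]; norm_num), hx, hy]
    have h2 : (x * y) ^ 22 = y := by
      rw [hc.mul_pow, show 22 = 11 * 2 from rfl, pow_mul x, ← hx, pow_orderOf_eq_one, one_pow, one_mul, hx,
        show 11 * 2 = 3 * 7 + 1 from rfl, pow_succ, pow_mul, ← hy, pow_orderOf_eq_one, one_pow, one_mul]
    exact th 95 4 3 y (by norm_num) (by decide +kernel) (by decide +kernel)
      (by rw [← h2, T.pow, (o33 _).1 h1]; decide +kernel)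
  · have h1 : orderOf (x * s) = 22 := by rw [hc.orderOf_mul_eq_mul_orderOf_of_coprime (by rw [hx, hs]; norm_num), hx, hs]
    have h2 : (x * s) ^ 11 = s := by
      rw [hc.mul_pow, ← hx, pow_orderOf_eq_one, one_mul, hx, show 11 = 2 * 5 + 1 from rfl, pow_succ, pow_mul, ← hs,
        pow_orderOf_eq_one, one_pow, one_mul]
    have h3 : T.ty s = 3 := by rw [← h2, T.pow, (o22 _).1 h1]; decide +kernel
    have h4 := T.ord a
    rw [ha] at h4
    rcases (by decide +kernel : ∀ t < 99, 2 = Co1.D.ord t → t = 1 ∨ t = 2 ∨ t = 3) _ (T.lt a) h4 with h5 | h5 | h5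
    · exfalso
      have haa : a * a = 1 := by rw [← pow_two, ← ha, pow_orderOf_eq_one]
      have hx' : x ^ 11 = 1 := by rw [← hx, pow_orderOf_eq_one]
      obtain ⟨m, hm⟩ := dih (Characters.Core.isIrr_isCharacter (hE.irr 2 (by rw [hn]; norm_num))) (n := 11) (by norm_num)
        hx' haa hax
      have h6 : ∀ i, T.ty (a * x ^ i) = 1 := fun i => by
        have h7 : a * x ^ i = (x ^ (5 * i)) * a * (x ^ (5 * i))⁻¹ := by
          have h8 : a * x ^ (5 * i) * a⁻¹ = (x ^ (5 * i))⁻¹ := by rw [← conj_pow, hax, inv_pow]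
          have h9 : x ^ (5 * i) * a = a * (x ^ (5 * i))⁻¹ := by
            rw [← h8, ← mul_assoc, ← mul_assoc, haa, one_mul, inv_eq_of_mul_eq_one_right haa]
          rw [h9, mul_assoc, ← mul_inv_rev, ← pow_add, mul_right_inj, eq_inv_iff_mul_eq_one, ← pow_add,
            show i + (5 * i + 5 * i) = 11 * i by ring, pow_mul, hx', one_pow]
        rw [h7, T.conj, h5]
      have h7 : ∀ i ∈ Finset.range 11, χ 2 (x ^ i) = if i = 0 then 299 else 2 := fun i hi => by
        have h8 : ∀ i < 11, (Sm2.rw' Co1.RA Co1.RB 2).getD (Co1.D.pwf 43 i) 0 = if i = 0 then 299 else 2 := by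
          decide +kernel
        rw [row 2 (by norm_num), T.pow, (o11 x).1 hx, h8 i (Finset.mem_range.1 hi)]
        split_ifs <;> norm_num
      have h8 : ∀ i ∈ Finset.range 11, χ 2 (a * x ^ i) = 43 := fun i _ => by
        rw [row 2 (by norm_num), h6, show (Sm2.rw' Co1.RA Co1.RB 2).getD 1 0 = 43 by decide +kernel]
        norm_num
      rw [Finset.sum_congr rfl h7, Finset.sum_congr rfl h8] at hm
      simp only [Finset.sum_range_succ, Finset.sum_range_zero] at hm
      norm_num at hm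
      have h9 : ((-154 : ℤ) : ℂ) = ((22 * m : ℤ) : ℂ) := by push_cast; linear_combination hm
      have := Int.cast_injective h9
      omega
    · exact Or.inr (th 84 2 2 a (by norm_num) (by decide +kernel) (by decide +kernel) h5)
    · obtain ⟨k, hk⟩ := hr s a (h3.trans h5.symm)
      have h6 : s ^ k = 1 ∨ s ^ k = s := by
        rw [← pow_mod_orderOf, hs]
        rcases Nat.mod_two_eq_zero_or_one k with h | h <;> simp [h]
      rcases h6 with h6 | h6
      · rw [h6, isConj_one_right] at hk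
        rw [hk, orderOf_one] at ha
        omega
      · exact Or.inl (h6 ▸ hk)
  · obtain ⟨g, hg⟩ := hI 16 (by norm_num)
    refine idx_gen (hn ▸ hE) (by decide +kernel) (by decide +kernel) (by decide +kernel) (g := g) ?_ ?_ ?_ K
    · rw [row 1 (by norm_num), hg, show (Sm2.rw' Co1.RA Co1.RB 1).getD 16 0 = 1 by decide +kernel]
    · rw [row 2 (by norm_num), hg, show (Sm2.rw' Co1.RA Co1.RB 2).getD 16 0 = -1 by decide +kernel]
    · rw [row 3 (by norm_num), hg, show (Sm2.rw' Co1.RA Co1.RB 3).getD 16 0 = -4 by decide +kernel]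

end Cfsg.Agent.SM.Co
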