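import Cfsg.Agent.SM.Co.Defs
import Cfsg.Agent.SM.CS.Defs
import Cfsg.Agent.SM.Rig
import Cfsg.Agent.SM.CSi.Cnt
import Cfsg.Agent.H292.OrthVec
import Cfsg.Agent.E82.Small
import Cfsg.Agent.H883.Bridge
import Cfsg.Agent.H269.U5.Res
import Cfsg.Agent.H934.OutB
import Cfsg.Agent.H55.OutGen
import Cfsg.Agent.S2069

/-!
# SM (S3570), the row `Sp₂₂(2) < Ω₂₄⁺(2)`: from the linear count to the count of the overgroups (helper58)

* `count` : the abstract count in a model `S₀`;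
* `exists_tp`, `model` : transport to the standard form; `stab_co` : the point stabiliser is `Co₁`; `boxCo_of`.
-/

set_option autoImplicit false
set_option linter.unusedSectionVars false

namespace Cfsg.Agent.SM.Co.Gl

open Cfsg Cfsg.Geo Equiv Subgroup MulAction Matrix Module
open Cfsg.Agent.LieClassical.QuadForms (plusForm plusForm_apply)
open Cfsg.Agent.H925 (qf nondeg_qf)
open Cfsg.Agent.SM.CS (Cov pre)

section abs

variable {Ω : Type} [Fintype Ω] [DecidableEq Ω] {X H T M S : Subgroup (Perm Ω)}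
  {S₀ V : Type} [Group S₀] [AddCommGroup V] [DistribMulAction S₀ V] {Q : V → ZMod 2} {v : V}

theorem mem_T (u : Up X H T M S) (hs : IsSimpleGroup (stabilizer S₀ v)) (φ : S ≃* S₀)
    (h : ∀ s : S, (s : Perm Ω) ∈ H ↔ φ s • v = v) (s : S) : (s : Perm Ω) ∈ T ↔ φ s • v = v := by
  refine ⟨fun hs => (h s).1 (u.socH.le hs), fun k => ?_⟩
  let N : Subgroup (stabilizer S₀ v) := (T.subgroupOf S).comap (φ.symm.toMonoidHom.comp (stabilizer S₀ v).subtype)
  have hN : ∀ x : stabilizer S₀ v, x ∈ N ↔ ((φ.symm x : S) : Perm Ω) ∈ T := fun _ => Iff.rfl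
  have h1 : N.Normal := ⟨fun n hn g => by
    rw [hN, coe_mul, coe_mul, coe_inv, map_mul, map_mul, map_inv]
    exact u.socH.conj _ ((h _).2 (by rw [φ.apply_symm_apply]; exact g.2)) _ hn⟩
  rcases h1.eq_bot_or_eq_top with h2 | h2
  · refine absurd (eq_bot_iff.2 fun t ht => ?_) u.socH.ne
    have h3 : (⟨φ ⟨t, u.le ht⟩, (h _).1 (u.socH.le ht)⟩ : stabilizer S₀ v) ∈ N := by
      rw [hN, φ.symm_apply_apply]
      exact ht
    rw [h2, mem_bot] at h3
    exact congrArg Subtype.val ((map_eq_one_iff φ φ.injective).1 (congrArg Subtype.val h3))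
  · have h3 : (⟨φ s, k⟩ : stabilizer S₀ v) ∈ N := h2 ▸ mem_top _
    rwa [hN, φ.symm_apply_apply] at h3

theorem exists_eq (u : Up X H T M S) (hs : IsSimpleGroup (stabilizer S₀ v)) (φ : S ≃* S₀)
    (h : ∀ s : S, (s : Perm Ω) ∈ H ↔ φ s • v = v) :
    ∃ ε : T ≃* stabilizer S₀ v, ∀ t : T, (ε t : S₀) = φ ⟨t, u.le t.2⟩ := by
  refine ⟨MulEquiv.ofBijective ((φ.toMonoidHom.comp (inclusion u.le)).codRestrict _
    fun t => (mem_T u hs φ h _).1 t.2) ⟨fun x y e => ?_, fun x => ?_⟩, fun _ => rfl⟩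
  · exact inclusion_injective u.le (φ.injective (congrArg Subtype.val e))
  · exact ⟨⟨(φ.symm x : S), (mem_T u hs φ h _).2 (by rw [φ.apply_symm_apply]; exact x.2)⟩,
      Subtype.ext (φ.apply_symm_apply x)⟩

/-- **the count in a model** -/
theorem count (hL : BoxLin) (hS : Sp S₀ V Q) (hv : Q v = 1) (ht : ∀ w, Q w = 1 → ∃ s : S₀, s • v = w)
    (hs : IsSimpleGroup (stabilizer S₀ v)) (hi : ∀ α : MulAut (stabilizer S₀ v), ∃ c, MulAut.conj c = α) (a : Ω)
    {O : Set (Subgroup (Perm Ω))} (h : ∀ M ∈ O, ∃ S, Up X H T M S ∧ ∃ φ : S ≃* S₀,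
      (∀ s : S, (s : Perm Ω) ∈ H ↔ φ s • v = v) ∧ Spor.IsoCo1 ((stabilizer (Perm Ω) a).subgroupOf S)) : O.ncard ≤ 8 := by
  rcases O.eq_empty_or_nonempty with rfl | ⟨M₀, h₀⟩
  · simp
  obtain ⟨S₁, u₁, φ₁, k₁, -⟩ := h M₀ h₀
  obtain ⟨ε₁, -⟩ := exists_eq u₁ hs φ₁ k₁
  have := hS.fin
  let ι : T →* S₀ := (stabilizer S₀ v).subtype.comp ε₁.toMonoidHom
  refine (ncard_le_of_stabs (X := X) (H := H) ι a (Set.toFinite _) fun M hM => ?_).trans
    (hL S₀ V Q v (((stabilizer (Perm Ω) a).subgroupOf T).map ι) hS hv)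
  obtain ⟨S, u, φ, k, ⟨e⟩⟩ := h M hM
  obtain ⟨ε, hε⟩ := exists_eq u hs φ k
  obtain ⟨c, hc⟩ := hi (ε.symm.trans ε₁)
  let ψ : S ≃* S₀ := φ.trans (MulAut.conj (c : S₀))
  have h1 : ∀ t (ht : t ∈ T), ψ ⟨t, u.le ht⟩ = ι ⟨t, ht⟩ := fun t ht => by
    have h2 := congrArg Subtype.val (DFunLike.congr_fun hc (ε ⟨t, ht⟩))
    rw [MulEquiv.trans_apply, ε.symm_apply_apply, MulAut.conj_apply, coe_mul, coe_mul, hε] at h2
    exact h2
  have h2 : ∀ s : S, (s : Perm Ω) a = a ↔ ψ s ∈ ((stabilizer (Perm Ω) a).subgroupOf S).map ψ.toMonoidHom := fun s =>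
    (mem_map_iff_mem (f := ψ.toMonoidHom) ψ.injective (K := (stabilizer (Perm Ω) a).subgroupOf S)).symm
  refine ⟨S, u, ψ, h1, _, ⟨fct ⟨(ψ.subgroupMap _).symm.trans e⟩, ?_, fun w hw => ?_⟩, h2⟩
  · ext x
    constructor
    · rintro ⟨k1, k2⟩
      obtain ⟨t, ht⟩ := ε₁.surjective ⟨x, k2⟩
      have h3 : ι t = x := congrArg Subtype.val ht
      refine ⟨t, (h2 ⟨t, u.le t.2⟩).2 ?_, h3⟩
      rw [h1 t t.2, h3]
      exact k1
    · rintro ⟨t, ht, rfl⟩
      exact ⟨h1 t t.2 ▸ (h2 ⟨t, u.le t.2⟩).1 ht, (ε₁ t).2⟩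
  · obtain ⟨s, rfl⟩ := ht w hw
    obtain ⟨s, rfl⟩ := ψ.surjective s
    obtain ⟨t, ht, b, hb, e'⟩ := (u.fac a).fac _ (S.inv_mem s.2)
    refine ⟨ψ (s * ⟨t, u.le ht⟩), (h2 _).1 ?_, ?_⟩
    · have h3 : (s : Perm Ω) * t = b⁻¹ := by
        rw [← inv_inv (s : Perm Ω), e', _root_.mul_inv_rev, inv_mul_cancel_right]
      rw [coe_mul, h3]
      exact (stabilizer (Perm Ω) a).inv_mem hb.2
    · rw [map_mul, mul_smul, h1 t ht]
      exact congrArg _ (ε₁ ⟨t, ht⟩).2

end abs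

theorem inner {G G' : Type} [Group G] [Group G'] [Finite G'] (e : G ≃* G') (hc : center G' = ⊥)
    (h : Nat.card (MulAut G') = Nat.card G') (α : MulAut G) : ∃ c, MulAut.conj c = α := by
  have : Finite G := Finite.of_equiv _ e.toEquiv.symm
  have : Finite (MulAut G) := Finite.of_injective (fun f : MulAut G => (f : G → G)) DFunLike.coe_injective
  refine (Function.Injective.bijective_of_nat_card_le (f := (MulAut.conj : G →* MulAut G))
    ((injective_iff_map_eq_one _).2 fun c hc' => ?_) ?_).2 α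
  · refine (map_eq_one_iff e e.injective).1 (mem_bot.1 (hc ▸ mem_center_iff.2 fun y => ?_))
    obtain ⟨x, rfl⟩ := e.surjective y
    rw [← map_mul, ← map_mul, ← mul_inv_eq_iff_eq_mul.1 (show c * x * c⁻¹ = x from DFunLike.congr_fun hc' x)]
  · rw [Nat.card_congr (MulAut.congr e).toEquiv, h, Nat.card_congr e.toEquiv]

section lin

variable {ι ι' : Type} [Fintype ι] [DecidableEq ι] [Fintype ι'] [DecidableEq ι'] {K K' : Type} [Field K] [Field K']

theorem exists_tp (σ : K ≃+* K') (e : (ι → K) ≃ₗ[K] (ι' → K)) : ∃ Ψ : GL ι K ≃* GL ι' K', ∀ (g : GL ι K) (v : ι → K),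
    (Ψ g : Matrix ι' ι' K') *ᵥ (σ ∘ e v) = σ ∘ e ((g : Matrix ι ι K) *ᵥ v) := by
  let Φ : Matrix ι ι K ≃+* Matrix ι' ι' K :=
    (Matrix.toLinAlgEquiv'.toRingEquiv.trans e.conjRingEquiv).trans Matrix.toLinAlgEquiv'.toRingEquiv.symm
  have h1 : ∀ A w, Φ A *ᵥ e w = e (A *ᵥ w) := fun A w => by
    have h2 : Matrix.toLinAlgEquiv' (Φ A) = e.conjRingEquiv (Matrix.toLinAlgEquiv' A) :=
      Matrix.toLinAlgEquiv'.apply_symm_apply _
    rw [← Matrix.toLinAlgEquiv'_apply, h2]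
    simp [Matrix.toLinAlgEquiv'_apply]
  refine ⟨Units.mapEquiv (Φ.trans σ.mapMatrix).toMulEquiv, fun g v => funext fun i => ?_⟩
  rw [← h1]
  exact (RingHom.map_mulVec σ.toRingHom (Φ g) (e v) i).symm

/-- the action on the vectors -/
@[reducible] def dma (G : Subgroup (GL ι K)) : DistribMulAction G (ι → K) where
  smul g v := ((g : GL ι K) : Matrix ι ι K) *ᵥ v
  one_smul := one_mulVec
  mul_smul _ _ v := (mulVec_mulVec v _ _).symm
  smul_zero _ := mulVec_zero _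
  smul_add _ := mulVec_add _

variable [Fintype K]

theorem zero_or_one (hK : Fintype.card K = 2) (c : K) : c = 0 ∨ c = 1 := by
  obtain ⟨d, rfl⟩ := (ZMod.ringEquivOfPrime K Nat.prime_two hK).surjective c
  rcases (show ∀ d : ZMod 2, d = 0 ∨ d = 1 by decide) d with rfl | rfl
  · exact .inl (map_zero _)
  · exact .inr (map_one _)

theorem eq_one (hK : Fintype.card K = 2) {g : GL ι K} (h : g ∈ scalars ι K) : g = 1 := by
  obtain ⟨c, hc⟩ := (mem_scalars_iff g).1 h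
  rw [(zero_or_one hK c).resolve_left c.ne_zero, one_smul] at hc
  exact Units.ext hc

theorem om_le (Q : (ι → K) → K) : omegaGL Q ≤ isometryGroup K Q := map_subtype_le _

/-- transport to the standard form -/
theorem model {Q : (ι → K) → K} (hQ : IsNondegenerateQuadraticForm Q) (hp : IsPlusTypeOn Q ⊤) (hK : Fintype.card K = 2)
    {m : ℕ} (hm : 3 ≤ m) (hd : Fintype.card ι = 2 * m) {v : ι → K} (hv : Q v ≠ 0) {v₀ : Fin m ⊕ Fin m → ZMod 2}
    (h₀ : plusForm m (ZMod 2) v₀ = 1) : ∃ ψ : omegaGL Q ≃* omegaGL (plusForm m (ZMod 2)), ∀ g : omegaGL Q,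
      (g : GL ι K) ∈ subspaceStabilizer (Submodule.span K {v}) ↔
        ((ψ g : GL (Fin m ⊕ Fin m) (ZMod 2)) : Matrix (Fin m ⊕ Fin m) (Fin m ⊕ Fin m) (ZMod 2)) *ᵥ v₀ = v₀ := by
  let σ := (ZMod.ringEquivOfPrime K Nat.prime_two hK).symm
  obtain ⟨e, he⟩ := H955.exists_plus_equiv m (qf hQ) (nondeg_qf hQ) (by rw [finrank_pi, hd]) ((CS.Ix.isPlus_iff hQ).2 hp)
  obtain ⟨Ψ, hΨ⟩ := exists_tp σ e
  have h1 : ∀ u, plusForm m (ZMod 2) (σ ∘ e u) = σ (Q u) := fun u => by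
    rw [← show plusForm m K (e u) = Q u from he u, plusForm_apply, plusForm_apply, map_sum]
    exact Finset.sum_congr rfl fun i _ => (map_mul σ _ _).symm
  have h2 : ∀ w, ∃ u, σ ∘ e u = w := fun w => ⟨e.symm (σ.symm ∘ w), by
    rw [e.apply_symm_apply]
    exact funext fun i => σ.apply_symm_apply _⟩
  have h3 : ∀ {u w}, σ ∘ e u = σ ∘ e w → u = w := fun h => e.injective (funext fun i => σ.injective (congrFun h i))
  have h4 : (isometryGroup K Q).map Ψ.toMonoidHom = isometryGroup (ZMod 2) (plusForm m (ZMod 2)) := by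
    ext x
    obtain ⟨g, rfl⟩ := Ψ.surjective x
    refine (mem_map_iff_mem (f := Ψ.toMonoidHom) Ψ.injective).trans ⟨fun h w _ => ?_, fun h u _ => σ.injective ?_⟩
    · obtain ⟨u, rfl⟩ := h2 w
      exact ((congrArg _ (hΨ g u)).trans (h1 _)).trans ((congrArg σ (h u u)).trans (h1 u).symm)
    · exact (((congrArg _ (hΨ g u)).trans (h1 _)).symm.trans (h _ (σ ∘ e u))).trans (h1 u)
  have h5 : (omegaGL Q).map Ψ.toMonoidHom = omegaGL (plusForm m (ZMod 2)) := by
    rw [omegaGL, omegaGL, map_subtype_commutator, map_subtype_commutator, map_commutator, h4]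
  have h6 : σ ∘ e v ∈ CS.Ix.orb (omegaGL (plusForm m (ZMod 2))) v₀ := by
    rw [CS.Ix.orb_omega (H883.Bridge.isNondegenerateQuadraticForm (H955.nondeg_plus m))
      (by rw [Fintype.card_sum, Fintype.card_fin]; omega) (by rw [h₀]; exact one_ne_zero), Set.mem_ofPred_eq, h1, h₀,
      (zero_or_one hK (Q v)).resolve_left hv, map_one]
  obtain ⟨c, hc, h7⟩ := h6
  refine ⟨((Ψ.subgroupMap _).trans (MulEquiv.subgroupCongr h5)).trans (MulAut.conj ⟨c, hc⟩⁻¹), fun g => ?_⟩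
  have h8 : ∀ w : Fin m ⊕ Fin m → ZMod 2, (c⁻¹ : GL _ _).1 *ᵥ w = v₀ ↔ w = σ ∘ e v := fun w => by
    rw [← h7]
    constructor
    · rintro rfl
      rw [mulVec_mulVec, Units.mul_inv, one_mulVec]
    · rintro rfl
      rw [mulVec_mulVec, Units.inv_mul, one_mulVec]
  change _ ↔ (c⁻¹ * Ψ g * c⁻¹⁻¹ : GL _ _).1 *ᵥ v₀ = v₀
  rw [inv_inv, Units.val_mul, Units.val_mul, ← mulVec_mulVec, ← mulVec_mulVec, h7, hΨ, h8, CS.Ix.mem_stab_point]
  refine ⟨fun ⟨d, k⟩ => ?_, fun k => ⟨1, by rw [h3 k, one_smul]⟩⟩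
  rcases zero_or_one hK d with rfl | rfl
  · have h9 : Q _ = Q v := om_le Q g.2 v v
    rw [show (Units.coeHom _ g.1 : Matrix ι ι K) *ᵥ v = (0 : K) • v from k, hQ.smul, sq, zero_mul, zero_mul] at h9
    exact absurd h9.symm hv
  · rw [k, one_smul]

/-- the point stabiliser is `Co₁` -/
theorem stab_co (hK : Fintype.card K = 2) {Y P : Subgroup (GL ι K)} (hP : IsResidualCore Y P)
    (h : Spor.IsoCo1 (H915.LD.Soc P)) : Spor.IsoCo1 Y := by
  obtain ⟨e⟩ := h
  obtain ⟨φ, hφ⟩ := H269.U5.exists_act hP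
  have hs := hP.simple
  have h1 : (scalars ι K).subgroupOf P = ⊥ := eq_bot_iff.2 fun x hx => Subtype.ext (eq_one hK hx)
  have e' : P ≃* H915.LD.Soc P := MulEquiv.ofBijective (QuotientGroup.mk' _)
    ⟨(MonoidHom.ker_eq_bot_iff _).1 ((QuotientGroup.ker_mk' _).trans h1), QuotientGroup.mk'_surjective _⟩
  have : Finite (MulAut (H915.LD.Soc P)) := Finite.of_injective (fun f : MulAut (H915.LD.Soc P) => (f : _ → _))
    DFunLike.coe_injective
  have h2 := Nat.card_le_card_of_injective φ ((injective_iff_map_eq_one φ).2 fun y hy => Subtype.ext (eq_one hK (hφ y hy)))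
  rw [← H934.OutB.card_out_mul _ hP.nonabelian, H55.OutGen.card_out_congr e, S2069.result, one_mul,
    ← Nat.card_congr e'.toEquiv] at h2
  rw [← eq_of_le_of_card_ge hP.le h2]
  exact ⟨e'.trans e⟩

/-- the facts on the model -/
theorem facts {Q : QuadraticForm (ZMod 2) (ι → ZMod 2)} (hn : LieClassical.OrthCore.Nondeg Q) (hP : H955.IsPlus Q)
    (hc : Fintype.card ι = 24) :
    letI := dma (omegaGL (Q : (ι → ZMod 2) → ZMod 2))
    Sp (omegaGL Q) (ι → ZMod 2) Q := by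
  have hN := CS.Ix.card_norm_plus hn (m := 12) (by rw [finrank_pi, hc]) hP one_ne_zero
  rw [Nat.card_zmod] at hN
  have hp : ∀ u w, pol Q u w = QuadraticMap.polar Q u w := fun u w => by
    rw [pol, QuadraticMap.polar, sub_eq_add_neg, sub_eq_add_neg, ZMod.neg_eq_self_mod_two, ZMod.neg_eq_self_mod_two]
  let _ := dma (omegaGL (Q : (ι → ZMod 2) → ZMod 2))
  exact ⟨inferInstance, fun w => funext fun i => CharTwo.add_self_eq_zero _, by rw [Nat.card_fun, Nat.card_zmod,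
    Nat.card_eq_fintype_card, hc], fun u w x => by rw [hp, hp, hp, QuadraticMap.polar_add_left],
    fun u h => hn u fun w => (hp u w).symm.trans (h w), by omega, fun s w => om_le Q s.2 w w,
    fun s h => Subtype.ext (Units.ext (Matrix.mulVec_injective (funext fun w => (h w).trans (one_mulVec w).symm)))⟩

theorem stab_sp {Q : QuadraticForm (ZMod 2) (ι → ZMod 2)} (hn : LieClassical.OrthCore.Nondeg Q) {n : ℕ}
    (hc : Fintype.card ι = 2 * n + 2) (h4 : Fintype.card ι ≠ 4) {v : ι → ZMod 2} (hv : Q v = 1) :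
    letI := dma (omegaGL (Q : (ι → ZMod 2) → ZMod 2))
    Nonempty (stabilizer (omegaGL Q) v ≃* Matrix.symplecticGroup (Fin n) (ZMod 2)) := by
  let _ := dma (omegaGL (Q : (ι → ZMod 2) → ZMod 2))
  have hne : Nonempty ι := Fintype.card_pos_iff.1 (by omega)
  obtain ⟨e⟩ := H292.OrthVec.stab_equiv (Q := Q) (CharTwo.two_eq_zero)
    ⟨fun x hx => hn x hx, fun x hx => hn x fun y => (QuadraticMap.polar_comm Q x y).trans (hx y)⟩ hv hc h4
  let e₀ : Omega (ZMod 2) Q ≃* omegaGL Q := equivMapOfInjective _ _ (subtype_injective _)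
  have h1 : (H292.OrthVec.T Q v).map e₀.toMonoidHom = stabilizer (omegaGL Q) v := by
    ext x
    obtain ⟨y, rfl⟩ := e₀.surjective x
    exact mem_map_iff_mem (f := e₀.toMonoidHom) e₀.injective
  exact ⟨((e₀.subgroupMap _).trans (MulEquiv.subgroupCongr h1)).symm.trans e⟩

end lin

/-- one member -/
theorem member {Ω : Type} [Fintype Ω] [DecidableEq Ω] {X H T M : Subgroup (Perm Ω)} (h : CS.CoRow X H T M) (a : Ω) {m : ℕ}
    (hm : m = 12) {v : Fin m ⊕ Fin m → ZMod 2} (hv : plusForm m (ZMod 2) v = 1) :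
    ∃ S, Up X H T M S ∧ ∃ φ : S ≃* omegaGL (plusForm m (ZMod 2)), (∀ s : S, (s : Perm Ω) ∈ H ↔
      ((φ s : GL (Fin m ⊕ Fin m) (ZMod 2)) : Matrix (Fin m ⊕ Fin m) (Fin m ⊕ Fin m) (ZMod 2)) *ᵥ v = v) ∧
        Spor.IsoCo1 ((stabilizer (Perm Ω) a).subgroupOf S) := by
  obtain ⟨S, u, h⟩ := h
  obtain ⟨ι, _, _, K, _, _, f, Sg, G, X', P, π, k1, k2, k3, k4, k5⟩ := h a
  cases k1 with
  | p1 R hR hp hK hd w hw =>
    obtain ⟨ψ, hψ⟩ := model hR hp hK (m := m) (by omega) (by omega) hw hv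
    have hπ : Function.Injective π := (injective_iff_map_eq_one π).2 fun g hg =>
      Subtype.ext (eq_one hK ((k2.ker g).1 hg))
    obtain ⟨ε, hε⟩ : ∃ ε : omegaGL R ≃* S, ∀ g, (ε g : Perm Ω) = π g :=
      ⟨(MonoidHom.ofInjective hπ).trans (MulEquiv.subgroupCongr k2.range), fun _ => rfl⟩
    refine ⟨S, u, ε.symm.trans ψ, fun s => ?_, ?_⟩
    · obtain ⟨g, rfl⟩ := ε.surjective s
      rw [MulEquiv.trans_apply, ε.symm_apply_apply, hε]
      refine Iff.trans ?_ (hψ g)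
      have h2 : (g : GL ι K) ∈ pre π H ↔ π g ∈ H := mem_map_iff_mem (subtype_injective _)
      rw [← h2, k3]
      exact and_iff_right g.2
    · obtain ⟨e₂⟩ := stab_co hK k4 k5
      have h2 : ((M ⊓ stabilizer (Perm Ω) a).comap π).map ε.toMonoidHom = (stabilizer (Perm Ω) a).subgroupOf S := by
        ext x
        obtain ⟨g, rfl⟩ := ε.surjective x
        refine (mem_map_iff_mem (f := ε.toMonoidHom) ε.injective).trans ?_
        rw [mem_comap, ← hε]
        exact and_iff_right (u.socM.le (ε g).2)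
      exact ⟨((ε.subgroupMap _).trans (MulEquiv.subgroupCongr h2)).symm.trans
        ((equivMapOfInjective _ _ (subtype_injective _)).trans e₂)⟩

theorem inner_sp {G : Type} [Group G] {n : ℕ} (hn : 3 ≤ n) (e : G ≃* Matrix.symplecticGroup (Fin n) (ZMod 2)) :
    IsSimpleGroup G ∧ ∀ α : MulAut G, ∃ c, MulAut.conj c = α := by
  have hF : Fintype.card (ZMod 2) = 2 ^ 1 := ZMod.card 2
  have hs := E82.simple_sp hF le_rfl (m := n) (by omega) (by omega)
  refine ⟨e.isSimpleGroup, inner e (E82.center_sp hF le_rfl (by omega)) ?_⟩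
  rw [E82.aut_sp hF le_rfl (by omega) (by omega), if_neg (by omega)]
  exact mul_one _

theorem main (hL : BoxLin) {m : ℕ} (hm : m = 12) : CS.BoxCo 8 := by
  intro Ω _ _ X H T
  rcases Set.eq_empty_or_nonempty {M | CS.CoRow X H T M} with h0 | ⟨M₀, S₀, u₀, -⟩
  · rw [h0]
    simp
  obtain ⟨a⟩ : Nonempty Ω := Fintype.card_pos_iff.1 (lt_of_lt_of_le two_pos u₀.two)
  have hn := H955.nondeg_plus (F := ZMod 2) m
  have hc : Fintype.card (Fin m ⊕ Fin m) = 24 := by rw [Fintype.card_sum, Fintype.card_fin, hm]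
  let _ := dma (omegaGL (plusForm m (ZMod 2)))
  have hS := facts hn (H955.isPlus_plus m) hc
  obtain ⟨v, hv⟩ : Nonempty {v // plusForm m (ZMod 2) v = 1} := (Nat.card_pos_iff.1 (by rw [hS.cnt]; norm_num)).1
  obtain ⟨e⟩ := stab_sp hn (n := m - 1) (by omega) (by omega) hv
  have h1 := inner_sp (by omega) e
  refine count (X := X) (H := H) (T := T) hL hS hv (fun w hw => ?_) h1.1 h1.2 a fun M hM => member hM a hm hv
  have h2 : w ∈ CS.Ix.orb (omegaGL (plusForm m (ZMod 2))) v := by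
    rw [CS.Ix.orb_omega (H883.Bridge.isNondegenerateQuadraticForm hn) (by omega) (by rw [hv]; exact one_ne_zero)]
    exact hw.trans hv.symm
  obtain ⟨g, hg, h3⟩ := h2
  exact ⟨⟨g, hg⟩, h3⟩

end Cfsg.Agent.SM.Co.Gl

namespace Cfsg.Agent.SM.Co

/-- **the count of the overgroups from the linear count** -/
theorem boxCo_of (hL : BoxLin) : CS.BoxCo 8 := Gl.main hL rfl

end Cfsg.Agent.SM.Co
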