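import Cfsg.Agent.SM.Co.Cnt
import Cfsg.Agent.SM.Rig
import Cfsg.Agent.Classification.InvCentU.FiveLib

/-!
# SM (S3570), the row `Sp₂₂(2) < Ω₂₄⁺(2)`: `boxLin` (helper32)
-/

set_option autoImplicit false
set_option linter.unusedSectionVars false

namespace Cfsg.Agent.SM.Co

open Cfsg Subgroup MulAction Cfsg.Agent.Classification.InvCentU

theorem mem_cen {G : Type} [Group G] {x g : G} : g ∈ centralizer (zpowers x : Set G) ↔ Commute g x :=
  ⟨fun h => (mem_centralizer_iff.1 h x (mem_zpowers x)).symm, fun h => mem_centralizer_iff.2 fun _ ⟨k, hk⟩ =>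
    hk ▸ (h.zpow_right k).symm.eq⟩

theorem mem_nor {G : Type} [Group G] [Finite G] {x g : G} : g ∈ normalizer (zpowers x : Set G) ↔ g * x * g⁻¹ ∈ zpowers x :=
  ⟨fun h => (mem_normalizer_iff.1 h x).1 (mem_zpowers x), fun h => mem_normalizer_fintype fun _ ⟨k, hk⟩ => by
    rw [← hk]
    show g * x ^ k * g⁻¹ ∈ zpowers x
    rw [← conj_zpow]
    exact zpow_mem h k⟩

theorem po {G : Type} [Group G] {x : G} {n : ℕ} (h : orderOf x = n) : x ^ n = 1 := h ▸ pow_orderOf_eq_one x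

theorem exists_pow {G : Type} [Group G] [Finite G] {x g : G} {n : ℕ} (hx : orderOf x = n) (h : g ∈ zpowers x) :
    ∃ i < n, x ^ i = g := by
  classical
  obtain ⟨i, hi, h4⟩ := Finset.mem_image.1 (mem_zpowers_iff_mem_range_orderOf.1 h)
  exact ⟨i, hx ▸ Finset.mem_range.1 hi, h4⟩

theorem conj_cen {G : Type} [Group G] {x g k : G} (hg : g ∈ normalizer (zpowers x : Set G))
    (hk : k ∈ centralizer (zpowers x : Set G)) : g * k * g⁻¹ ∈ centralizer (zpowers x : Set G) :=
  mem_centralizer_iff.2 fun t ht => by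
    have h := mem_centralizer_iff.1 hk _ ((mem_normalizer_iff.1 (inv_mem hg) t).1 ht)
    calc t * (g * k * g⁻¹) = g * (g⁻¹ * t * g⁻¹⁻¹ * k) * g⁻¹ := by group
      _ = _ := by rw [h]; group

theorem exists_ord {G : Type} [Group G] [Finite G] {K : Subgroup G} {p : ℕ} (hp : p.Prime) (h : p ∣ Nat.card K) :
    ∃ g ∈ K, orderOf g = p := by
  have : Fact p.Prime := ⟨hp⟩
  obtain ⟨g, hg⟩ := exists_prime_orderOf_dvd_card' p h
  exact ⟨g, g.2, (orderOf_coe g).trans hg⟩

theorem syl {G : Type} [Group G] [Finite G] {p : ℕ} (hp : p.Prime) {x : G} (hx : orderOf x = p) {D : Subgroup G} (hD : x ∈ D)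
    (h2 : ¬ p ^ 2 ∣ Nat.card G) : ∃ m, m % p = 1 ∧ Nat.card D = m * Nat.card (normalizer (zpowers x : Set G) ⊓ D : Subgroup G) := by
  have : Fact p.Prime := ⟨hp⟩
  have h1 : Nat.card (zpowers x) = p := by rw [Nat.card_zpowers, hx]
  refine FiveLib.sylow_index (zpowers_le.2 hD) (IsPGroup.of_card (n := 1) (by rw [h1, pow_one])) fun h => h2 ?_
  rw [h1, Nat.dvd_div_iff_mul_dvd (h1 ▸ card_dvd_of_le (zpowers_le.2 hD)), ← pow_two] at h
  exact h.trans D.card_subgroup_dvd_card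

/-- an element of order 5 centralises a normal subgroup of order 2 or 3 -/
theorem comm5 {G : Type} [Group G] {e y : G} (he : e ^ 5 = 1) (h : e * y * e⁻¹ = y ∨ e * y * e⁻¹ = y⁻¹) : Commute e y := by
  rcases h with h | h
  · exact mul_inv_eq_iff_eq_mul.1 h
  · have h1 : Commute (e ^ 2) y := by
      have h2 : e * y⁻¹ * e⁻¹ = y := by simpa [mul_assoc] using congrArg Inv.inv h
      refine mul_inv_eq_iff_eq_mul.1 ?_
      calc e ^ 2 * y * (e ^ 2)⁻¹ = e * (e * y * e⁻¹) * e⁻¹ := by rw [pow_two]; group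
        _ = y := by rw [h, h2]
    have h2 := h1.pow_left 3
    rwa [← pow_mul, show 2 * 3 = 5 + 1 from rfl, pow_succ, he, one_mul] at h2

/-- the sieve for the index -/
def Ok (d : ℕ) : Prop := 4157776806543360000 / d / 253 % 23 = 1 →
  4157776806543360000 / d / 330 % 11 = 1 ∧ d % 11 = 2 ∨ 4157776806543360000 / d / 660 % 11 = 1 → d = 1 ∨ d = 24 ∨ d = 2048

set_option synthInstance.maxSize 2000 in
theorem divs' : ∀ i < 12, ∀ k < 64, k ∣ 63 → ∀ l < 66, l ∣ 65 → Ok (2 ^ i * (k * l)) := by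
  unfold Ok
  decide +kernel

theorem divs (i : ℕ) (hi : i < 12) (k : ℕ) (hk : k ∣ 63 * 65) : Ok (2 ^ i * k) := by
  obtain ⟨a, b, h1, h2, rfl⟩ := Nat.dvd_mul.1 hk
  exact divs' i hi a (Nat.lt_succ_of_le (Nat.le_of_dvd (by norm_num) h1)) h1 b
    (Nat.lt_succ_of_le (Nat.le_of_dvd (by norm_num) h2)) h2

variable {G V : Type} [Group G] [AddCommGroup V] [DistribMulAction G V] {Q : V → ZMod 2}

/-- `Co₁`, transitive on the non-singular vectors -/
structure Cx (G : Type) {V : Type} [Group G] [AddCommGroup V] [DistribMulAction G V] (Q : V → ZMod 2) (v : V) : Prop where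
  f : Fct G
  s : Sp G V Q
  q : Q v = 1
  t : ∀ w : V, Q w = 1 → ∃ g : G, g • v = w

namespace Cx

variable {v : V} (c : Cx G Q v)
include c

theorem move {w : V} (hw : Q w = 1) : Cx G Q w := ⟨c.f, c.s, hw, fun u hu => by
  obtain ⟨g, rfl⟩ := c.t w hw
  obtain ⟨k, rfl⟩ := c.t u hu
  exact ⟨k * g⁻¹, by rw [mul_smul, inv_smul_smul]⟩⟩

theorem index : (stabilizer G v).index = 8386560 := by
  rw [index_stabilizer, ← c.s.cnt]
  refine congrArg Set.ncard (Set.ext fun w => ⟨?_, c.t w⟩ : orbit G v = {w | Q w = 1})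
  rintro ⟨g, rfl⟩
  exact (c.s.inv g v).trans c.q

theorem card : Nat.card (stabilizer G v) = 495766656000 := by
  have h := (stabilizer G v).card_mul_index
  rw [c.index, c.f.card] at h
  omega

theorem n13 {t : G} (ht : orderOf t = 13) (w : V) (hw : Q w = 1) : t • w ≠ w := fun h => by
  have h1 := orderOf_dvd_natCard (stabilizer G w) h
  rw [ht, (c.move hw).card] at h1
  exact absurd h1 (by norm_num)

theorem n110 {x : G} (hx : orderOf x = 11) (hv : x • v = v) :
    Nat.card (normalizer (zpowers x : Set G) ⊓ stabilizer G v : Subgroup G) = 110 := by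
  have := c.s.fin
  obtain ⟨m, h1, h2⟩ := syl (by norm_num) hx (D := stabilizer G v) hv (by rw [c.f.card]; norm_num)
  have h3 := card_dvd_of_le (inf_le_left : normalizer (zpowers x : Set G) ⊓ stabilizer G v ≤ _)
  rw [c.f.n11 x hx] at h3
  rw [c.card] at h2
  refine (by decide +kernel : ∀ n < 661, n ∣ 660 → 495766656000 / n % 11 = 1 → n = 110) _
    (Nat.lt_succ_of_le (Nat.le_of_dvd (by norm_num) h3)) h3 ?_
  rw [h2, Nat.mul_div_cancel _ Nat.card_pos, h1]

theorem n3 {x y : G} (hx : orderOf x = 11) (hy : orderOf y = 3) (hc : Commute y x) (hv : x • v = v) : y • v ≠ v := fun h => by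
  have h1 := orderOf_dvd_natCard (normalizer (zpowers x : Set G) ⊓ stabilizer G v)
    ⟨centralizer_le_normalizer _ (mem_cen.2 hc), h⟩
  rw [hy, c.n110 hx hv] at h1
  exact absurd h1 (by norm_num)

theorem cub {x y : G} (hx : orderOf x = 11) (hy : orderOf y = 3) (hc : Commute y x) (w : V) : y • y • w = y • w + w := by
  have := c.s.finV
  have hx' : x ^ 11 = 1 := by rw [← hx, pow_orderOf_eq_one]
  have hy' : y ^ 3 = 1 := by rw [← hy, pow_orderOf_eq_one]
  obtain ⟨t, ht, htc⟩ := c.f.three x y hx hy hc.symm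
  have ht' : t ^ 13 = 1 := by rw [← ht, pow_orderOf_eq_one]
  have h1 := cong1 (by norm_num) ht' (W := fx V y) (fun _ hw => comm_fix htc hw) fun w _ hw =>
    c.s.fpf (by decide) ht' (c.n13 ht) hw
  have h2 := cong1 (by norm_num) hx' (W := fx V y) (fun _ hw => comm_fix hc.symm hw) fun w hw hw' =>
    c.s.fpf (g := y * x) (n := 33) (by decide) (by
      rw [hc.mul_pow, show 33 = 3 * 11 from rfl, pow_mul, hy', one_pow, one_mul, mul_comm, pow_mul, hx', one_pow])
      (fun u hu e => (c.move hu).n3 hx hy hc (by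
        have e1 := pow_fix e 12
        rwa [hc.mul_pow, show 12 = 3 * 4 from rfl, pow_mul, hy', one_pow, one_mul, show 3 * 4 = 11 + 1 from rfl, pow_succ, hx',
          one_mul] at e1) (by
        have e1 := pow_fix e 22
        rwa [hc.mul_pow, show 22 = 11 * 2 from rfl, pow_mul x, hx', one_pow, mul_one, show 11 * 2 = 3 * 7 + 1 from rfl, pow_succ,
          pow_mul, hy', one_pow, one_mul] at e1))
      (by rw [mul_smul, hw', show y • w = w from hw])
  obtain ⟨k, hk, h3⟩ := c.s.card_pow (fx V y)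
  rw [h3] at h1 h2
  rw [(by decide : ∀ k ≤ 24, 2 ^ k ≡ 1 [MOD 13] → 2 ^ k ≡ 1 [MOD 11] → k = 0) k hk h1 h2] at h3
  have h4 : tr y 3 w = 0 := AddSubgroup.mem_bot.1 (AddSubgroup.card_eq_one.1 h3 ▸ (tr_fix hy' w : _ ∈ fx V y))
  rw [tr_apply, Finset.sum_range_succ, Finset.sum_range_succ, Finset.sum_range_one, pow_zero, one_smul, pow_one, pow_two,
    mul_smul] at h4
  rw [← c.s.cancel h4, add_comm]

/-- the subgroup of order 3 of `C(x)` is normalised by `N(x)` -/
theorem norm3 {x y g : G} (hx : orderOf x = 11) (hy : orderOf y = 3) (hc : Commute y x) (hg : g * x * g⁻¹ ∈ zpowers x) :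
    g * y * g⁻¹ = y ∨ g * y * g⁻¹ = y⁻¹ := by
  have := c.s.fin
  have h1 : ∀ k ∈ centralizer (zpowers x : Set G), k ∈ normalizer (zpowers y : Set G) := by
    have : Fact (Nat.Prime 3) := ⟨by norm_num⟩
    have h66 := c.f.c11 x hx
    obtain ⟨m, h1, h2⟩ := FiveLib.sylow_index (p := 3) (P := zpowers y) (D := centralizer (zpowers x : Set G))
      (zpowers_le.2 (mem_cen.2 hc)) (IsPGroup.of_card (n := 1) (by rw [Nat.card_zpowers, hy, pow_one]))
      (by rw [h66, Nat.card_zpowers, hy]; norm_num)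
    have h3 := orderOf_dvd_natCard (normalizer (zpowers y : Set G) ⊓ centralizer (zpowers x : Set G))
      ⟨centralizer_le_normalizer _ (mem_cen.2 hc.symm), mem_cen.2 (Commute.refl x)⟩
    obtain ⟨j, h4⟩ := h3
    rw [h66, h4, hx] at h2
    have h5 : m * j = 6 := by linarith
    obtain rfl : j = 6 := by
      have := Nat.le_of_dvd (by norm_num) (Dvd.intro _ h5)
      interval_cases m <;> omega
    have h6 := eq_of_le_of_card_ge (inf_le_right : normalizer (zpowers y : Set G) ⊓ centralizer (zpowers x : Set G) ≤ _)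
      (by rw [h4, hx, h66])
    exact fun k hk => (h6.ge hk).1
  have h2 : g * y * g⁻¹ ∈ centralizer (zpowers x : Set G) :=
    conj_cen (mem_nor.2 hg) (mem_cen.2 hc)
  have h3 : g * y * g⁻¹ ∈ zpowers y := by
    by_contra h3
    have : Fact (Nat.Prime 3) := ⟨by norm_num⟩
    have h4 : orderOf (g * y * g⁻¹) = 3 := (orderOf_injective (MulAut.conj g).toMonoidHom (MulAut.conj g).injective y).trans hy
    have h5 : IsPGroup 3 (zpowers (g * y * g⁻¹) ⊔ zpowers y : Subgroup G) :=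
      IsPGroup.to_sup_of_normal_right' (IsPGroup.of_card (n := 1) (by rw [Nat.card_zpowers, h4, pow_one]))
        (IsPGroup.of_card (n := 1) (by rw [Nat.card_zpowers, hy, pow_one])) (zpowers_le.2 (h1 _ h2))
    obtain ⟨n, hn⟩ := IsPGroup.iff_card.1 h5
    have h6 := card_dvd_of_le (sup_le (zpowers_le.2 h2) (zpowers_le.2 (mem_cen.2 hc)))
    rw [hn, c.f.c11 x hx] at h6
    have h7 : n ≤ 1 := by
      by_contra h7
      exact absurd ((pow_dvd_pow 3 (show 2 ≤ n by omega)).trans h6) (by norm_num)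
    have h8 := eq_of_le_of_card_ge (le_sup_right : zpowers y ≤ zpowers (g * y * g⁻¹) ⊔ zpowers y)
      (by rw [hn, Nat.card_zpowers, hy]; exact (Nat.pow_le_pow_right (by norm_num) h7).trans (by norm_num))
    exact h3 (h8.ge (mem_sup_left (mem_zpowers _)))
  obtain ⟨i, hi, h4⟩ := exists_pow hy h3
  interval_cases i
  · have h5 : y = 1 := by
      have := congrArg (fun t => g⁻¹ * t * g) h4
      simpa [mul_assoc] using this.symm
    rw [h5, orderOf_one] at hy
    omega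
  · exact Or.inl (h4.symm.trans (pow_one y))
  · exact Or.inr (h4.symm.trans (eq_inv_of_mul_eq_one_left (by rw [← pow_succ]; exact po hy)))

theorem sm {x y a : G} (hx : orderOf x = 11) (hy : orderOf y = 3) (hc : Commute y x) (ha : orderOf a = 2) (hxa : Commute x a) :
    Sm V a y := by
  have hy' : y⁻¹ = y * y := inv_eq_of_mul_eq_one_left (by rw [← pow_two, ← pow_succ]; exact po hy)
  refine ⟨by rw [← pow_two, ← ha, pow_orderOf_eq_one], c.cub hx hy hc, fun w => ?_⟩
  rcases c.norm3 hx hy hc (g := a) (by rw [← hxa.eq, mul_inv_cancel_right]; exact mem_zpowers x) with h | h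
  · have h1 : Commute a y := mul_inv_eq_iff_eq_mul.1 h
    refine (c.f.no66 (x * (a * y)) ?_).elim
    have h2 : orderOf (a * y) = 6 := by rw [h1.orderOf_mul_eq_mul_orderOf_of_coprime (by rw [ha, hy]; norm_num), ha, hy]
    rw [(hxa.mul_right hc.symm).orderOf_mul_eq_mul_orderOf_of_coprime (by rw [hx, h2]; norm_num), hx, h2]
  · rw [← mul_smul, mul_inv_eq_iff_eq_mul.1 h, hy', mul_smul, mul_smul]

theorem exists_y {x : G} (hx : orderOf x = 11) : ∃ y, orderOf y = 3 ∧ Commute y x := by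
  have := c.s.fin
  obtain ⟨y, h1, h2⟩ := exists_ord (K := centralizer (zpowers x : Set G)) (p := 3) (by norm_num) (by rw [c.f.c11 x hx]; norm_num)
  exact ⟨y, h2, mem_cen.1 h1⟩

/-- the involutions of `N(x)` -/
theorem inv_or {x a : G} (hx : orderOf x = 11) (ha : orderOf a = 2) (h : a * x * a⁻¹ ∈ zpowers x) :
    Commute x a ∨ a * x * a⁻¹ = x⁻¹ := by
  have := c.s.fin
  obtain ⟨i, hi, h4⟩ := exists_pow hx h
  have h1 : x ^ (i * i) = x ^ 1 := by
    rw [pow_mul, h4, conj_pow, h4, pow_one, show a * (a * x * a⁻¹) * a⁻¹ = (a * a) * x * (a * a)⁻¹ by group, ← pow_two, po ha,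
      one_mul, inv_one, mul_one]
  rw [pow_eq_pow_iff_modEq, hx] at h1
  rcases (by decide : ∀ i < 11, i * i ≡ 1 [MOD 11] → i = 1 ∨ i = 10) i hi h1 with rfl | rfl
  · exact Or.inl (mul_inv_eq_iff_eq_mul.1 (h4.symm.trans (pow_one x))).symm
  · exact Or.inr (h4.symm.trans (eq_inv_of_mul_eq_one_left (by rw [← pow_succ]; exact po hx)))

/-- some non-singular vector is fixed by an element of order 22 -/
theorem exists_22 : ∃ x a : G, orderOf x = 11 ∧ orderOf a = 2 ∧ Commute x a ∧ x • v = v ∧ a • v = v := by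
  have := c.s.fin
  obtain ⟨x, hxv, hx⟩ := exists_ord (K := stabilizer G v) (p := 11) (by norm_num) (by rw [c.card]; norm_num)
  obtain ⟨a, ⟨h1, hav⟩, ha⟩ := exists_ord (K := normalizer (zpowers x : Set G) ⊓ stabilizer G v) (p := 2) (by norm_num)
    (by rw [c.n110 hx hxv]; norm_num)
  rcases c.inv_or hx ha (mem_nor.1 h1) with h2 | h2
  · exact ⟨x, a, hx, ha, h2, hxv, hav⟩
  obtain ⟨s, h3, hs⟩ := exists_ord (K := centralizer (zpowers x : Set G)) (p := 2) (by norm_num) (by rw [c.f.c11 x hx]; norm_num)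
  have h4 := (mem_cen.1 h3).symm
  rcases c.f.two x s a hx hs h4 ha h2 with h5 | ⟨t, ht, h5⟩
  · obtain ⟨k, rfl⟩ := isConj_iff.1 h5
    obtain ⟨y, hy, hc⟩ := c.exists_y hx
    have m := c.sm hx hy hc hs h4
    obtain ⟨w, h6, h7, h8⟩ := c.s.fix_iso (c.s.sm_card m) (fun p hp r hr => c.s.sm_iso m hp hr) (v := k⁻¹ • v)
      (by rw [mem_fx, eq_inv_smul_iff, ← mul_smul, ← mul_smul]; exact hav) ((c.s.inv _ _).trans c.q) (p := 11) (by norm_num)
      (by norm_num) (by rw [← hx, pow_orderOf_eq_one]) fun _ hw => comm_fix h4 hw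
    obtain ⟨g, rfl⟩ := (c.move h7).t v c.q
    have o : ∀ t : G, orderOf (g * t * g⁻¹) = orderOf t := fun t =>
      orderOf_injective (MulAut.conj g).toMonoidHom (MulAut.conj g).injective t
    exact ⟨g * x * g⁻¹, g * s * g⁻¹, (o x).trans hx, (o s).trans hs, h4.map (MulAut.conj g),
      by rw [mul_smul, mul_smul, inv_smul_smul, h8], by rw [mul_smul, mul_smul, inv_smul_smul, show s • w = w from h6]⟩
  · refine (c.s.no_fix13 (by rw [← pow_two, ← ha, pow_orderOf_eq_one]) (fun e => ?_) (by rw [← ht, pow_orderOf_eq_one]) h5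
      (c.n13 ht) c.q hav).elim
    rw [e, orderOf_one] at ha
    omega

theorem exists_dt : ∃ x a e : G, Dt x a e v := by
  have := c.s.fin
  obtain ⟨x, a, hx, ha, hxa, hxv, hav⟩ := c.exists_22
  have hN := c.n110 hx hxv
  obtain ⟨e, ⟨h1, hev⟩, he⟩ := exists_ord (K := normalizer (zpowers x : Set G) ⊓ stabilizer G v) (p := 5) (by norm_num)
    (by rw [hN]; norm_num)
  refine ⟨x, a, e, hx, ha, he, hxa, mem_nor.1 h1, ?_, fun h => ?_, hxv, hav, hev⟩
  · -- `C(x) ⊓ A` is cyclic of order 22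
    have h2 : orderOf (x * a) = 22 := by rw [hxa.orderOf_mul_eq_mul_orderOf_of_coprime (by rw [hx, ha]; norm_num), hx, ha]
    have h3 : zpowers (x * a) = centralizer (zpowers x : Set G) ⊓ stabilizer G v := by
      refine eq_of_le_of_card_ge (zpowers_le.2 ⟨mem_cen.2 ((Commute.refl x).mul_left hxa.symm), mul_mem hxv hav⟩) ?_
      have h4 := card_dvd_of_le (inf_le_left : centralizer (zpowers x : Set G) ⊓ stabilizer G v ≤ _)
      have h5 := card_dvd_of_le (inf_le_inf_right (stabilizer G v) (centralizer_le_normalizer (zpowers x : Set G)))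
      rw [c.f.c11 x hx] at h4
      rw [hN] at h5
      rw [Nat.card_zpowers, h2]
      exact Nat.le_of_dvd (by norm_num) (Nat.dvd_gcd h4 h5)
    have h4 : e * a * e⁻¹ ∈ zpowers (x * a) := h3.ge
      ⟨conj_cen h1 (mem_cen.2 hxa.symm), (stabilizer G v).mul_mem (mul_mem hev hav) (inv_mem hev)⟩
    obtain ⟨i, hi, h5⟩ := exists_pow h2 h4
    have h6 : orderOf ((x * a) ^ i) = 2 :=
      h5 ▸ (orderOf_injective (MulAut.conj e).toMonoidHom (MulAut.conj e).injective a).trans ha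
    rw [orderOf_pow, h2] at h6
    obtain rfl := (by decide : ∀ i < 22, 22 / Nat.gcd 22 i = 2 → i = 11) i hi h6
    refine mul_inv_eq_iff_eq_mul.1 (h5.symm.trans ?_)
    show (x * a) ^ 11 = a
    rw [hxa.mul_pow, ← hx, pow_orderOf_eq_one, one_mul, hx, show 11 = 2 * 5 + 1 from rfl, pow_succ, pow_mul, ← ha,
      pow_orderOf_eq_one, one_pow, one_mul]
  · have h2 := orderOf_dvd_natCard _ (mem_cen.2 h)
    rw [he, c.f.c11 x hx] at h2
    exact absurd h2 (by norm_num)

theorem gen {x a e y : G} (d : Dt x a e v) (hy : orderOf y = 3) (hc : Commute y x) {K : Subgroup G} (hK : stabilizer G v ≤ K)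
    (hyK : y ∈ K) : K = ⊤ := by
  have := c.s.fin
  obtain ⟨z, hzv, hz⟩ := exists_ord (K := stabilizer G v) (p := 23) (by norm_num) (by rw [c.card]; norm_num)
  have h1 : Nat.card (normalizer (zpowers z : Set G) ⊓ K : Subgroup G) = 253 := by
    obtain ⟨m, h1, h2⟩ := syl (by norm_num) hz hzv (by rw [c.f.card]; norm_num)
    have h3 := card_dvd_of_le (inf_le_left : normalizer (zpowers z : Set G) ⊓ stabilizer G v ≤ _)
    rw [c.f.n23 z hz] at h3
    rw [c.card] at h2
    have h4 := (by decide +kernel : ∀ n < 254, n ∣ 253 → 495766656000 / n % 23 = 1 → n = 253) _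
      (Nat.lt_succ_of_le (Nat.le_of_dvd (by norm_num) h3)) h3 (by rw [h2, Nat.mul_div_cancel _ Nat.card_pos, h1])
    exact le_antisymm ((card_le_of_le inf_le_left).trans (c.f.n23 z hz).le) (h4.ge.trans (card_le_of_le (inf_le_inf_left _ hK)))
  obtain ⟨m, h2, h3⟩ := syl (by norm_num) hz (hK hzv) (by rw [c.f.card]; norm_num)
  obtain ⟨m', h4, h5⟩ := syl (by norm_num) d.ox (hK d.xv) (by rw [c.f.card]; norm_num)
  have h6 := card_dvd_of_le (inf_le_left : normalizer (zpowers x : Set G) ⊓ K ≤ _)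
  have h7 := card_dvd_of_le (inf_le_inf_left (normalizer (zpowers x : Set G)) hK)
  have h8 := orderOf_dvd_natCard (normalizer (zpowers x : Set G) ⊓ K) ⟨centralizer_le_normalizer _ (mem_cen.2 hc), hyK⟩
  rw [c.f.n11 x d.ox] at h6
  rw [c.n110 d.ox d.xv] at h7
  rw [hy] at h8
  have h9 := (by decide +kernel : ∀ n < 661, n ∣ 660 → 110 ∣ n → 3 ∣ n → n = 330 ∨ n = 660) _
    (Nat.lt_succ_of_le (Nat.le_of_dvd (by norm_num) h6)) h6 h7 h8
  have h10 := index_dvd_of_le hK
  have h11 := K.card_mul_index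
  rw [c.index, show 8386560 = 2 ^ 11 * 4095 from rfl] at h10
  obtain ⟨k₁, k₂, a1, a2, a3⟩ := Nat.dvd_mul.1 h10
  obtain ⟨i, hi, rfl⟩ := (Nat.dvd_prime_pow Nat.prime_two).1 a1
  have h12 : 4157776806543360000 / (2 ^ i * k₂) = Nat.card K := by
    rw [a3, ← c.f.card, ← h11, Nat.mul_div_cancel _ (Nat.pos_of_ne_zero index_ne_zero_of_finite)]
  have h13 := divs i (by omega) k₂ a2 (by rw [h12, h3, h1, Nat.mul_div_cancel _ (by norm_num), h2]) (by
      rw [h12, h5, a3]
      rcases h9 with e' | e' <;> rw [e']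
      · refine Or.inl ⟨by rw [Nat.mul_div_cancel _ (by norm_num), h4], ?_⟩
        rw [h5, e', c.f.card] at h11
        have h14 : m' * K.index = 12599323656192000 := by linarith
        have h15 := Nat.mul_mod m' K.index 11
        rw [h14, h4, one_mul, Nat.mod_mod] at h15
        exact h15.symm
      · exact Or.inr (by rw [Nat.mul_div_cancel _ (by norm_num), h4]))
  have h14 := c.f.idx K
  rw [a3] at h13
  exact index_eq_one.1 (by omega)

theorem exists_yy {x a e : G} (d : Dt x a e v) :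
    ∃ y, Yy V x a e y ∧ ∀ K : Subgroup G, stabilizer G v ≤ K → y * y ∈ K → K = ⊤ := by
  obtain ⟨y, hy, hc⟩ := c.exists_y d.ox
  refine ⟨y, ⟨c.sm d.ox hy hc d.oa d.xa, hc, (comm5 (by rw [← d.oe, pow_orderOf_eq_one]) (c.norm3 d.ox hy hc d.ex)).symm⟩,
    fun K h1 h2 => c.gen d hy hc h1 ?_⟩
  have h3 := mul_mem h2 h2
  rwa [← pow_two y, ← pow_add, show 2 + 2 = 3 + 1 from rfl, pow_succ, po hy, one_mul] at h3

end Cx

theorem boxLin : BoxLin := fun S V _ _ _ Q v A h hv => by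
  have := h.fin
  rcases (Ovr Q v A).eq_empty_or_nonempty with e | ⟨B₀, hB₀⟩
  · rw [e, Set.ncard_empty]
    norm_num
  have cx : ∀ B ∈ Ovr Q v A, Cx B Q v := fun B hB => ⟨hB.1, ⟨inferInstance, h.two, h.card, h.add, h.nd, h.cnt,
    fun s => h.inv s, fun s hs => Subtype.ext (h.faith s hs)⟩, hv, fun w hw => by
      obtain ⟨b, h1, h2⟩ := hB.2.2 w hw
      exact ⟨⟨b, h1⟩, h2⟩⟩
  obtain ⟨x, a, e, d₀⟩ := (cx B₀ hB₀).exists_dt
  have d : Dt (x : S) a e v := ⟨(orderOf_coe x).trans d₀.ox, (orderOf_coe a).trans d₀.oa, (orderOf_coe e).trans d₀.oe,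
    congrArg Subtype.val d₀.xa, by
      obtain ⟨k, hk⟩ := d₀.ex
      exact ⟨k, congrArg Subtype.val hk⟩, congrArg Subtype.val d₀.ea, fun h => d₀.nc (Subtype.ext h), d₀.xv, d₀.av, d₀.ev⟩
  have hA : ∀ B ∈ Ovr Q v A, ∀ g : B₀, g • v = v → (g : S) ∈ B := fun B hB g hg =>
    ((hB₀.2.1.trans hB.2.1.symm).le ⟨g.2, hg⟩).1
  have ey : ∀ B ∈ Ovr Q v A, ∃ y ∈ B, Yy V (x : S) a e y ∧ ∀ K : Subgroup S, A ≤ K → y * y ∈ K → B ≤ K := fun B hB => by
    obtain ⟨y, h1, h2⟩ := (cx B hB).exists_yy (x := ⟨x, hA B hB x d.xv⟩) (a := ⟨a, hA B hB a d.av⟩) (e := ⟨e, hA B hB e d.ev⟩)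
      ⟨(orderOf_coe _).symm.trans d.ox, (orderOf_coe _).symm.trans d.oa, (orderOf_coe _).symm.trans d.oe, Subtype.ext d.xa, by
        obtain ⟨k, hk⟩ := d.ex
        exact ⟨k, Subtype.ext hk⟩, Subtype.ext d.ea, fun h => d.nc (congrArg Subtype.val h), d.xv, d.av, d.ev⟩
    exact ⟨y, y.2, ⟨⟨congrArg Subtype.val h1.two, h1.cub, h1.inv⟩, congrArg Subtype.val h1.xy, congrArg Subtype.val h1.ey⟩,
      fun K h3 h4 => subgroupOf_eq_top.1 (h2 (K.subgroupOf B) (fun g hg => h3 (hB.2.1.le ⟨g.2, hg⟩)) h4)⟩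
  obtain ⟨y₀, -, m₀, -⟩ := ey B₀ hB₀
  obtain ⟨C, h1, h2⟩ := h.lin d hv m₀
  refine (ncard_le_of_col C.toFinite (fun B c => c ∈ B ∧ ∀ K : Subgroup S, A ≤ K → c ∈ K → B ≤ K) (fun B hB => ?_)
    fun B hB B' hB' c _ r r' => le_antisymm (r.2 B' (hB'.2.1.ge.trans inf_le_left) r'.1)
      (r'.2 B (hB.2.1.ge.trans inf_le_left) r.1)).trans h1
  obtain ⟨y, h3, h4, h5⟩ := ey B hB
  rcases h2 y h4 with h6 | h6
  · exact ⟨y, h6, h3, fun K h7 h8 => h5 K h7 (mul_mem h8 h8)⟩
  · exact ⟨y * y, h6, mul_mem h3 h3, h5⟩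

end Cfsg.Agent.SM.Co
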