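import Cfsg.Agent.SM.Co.Defs

/-!
# SM (S3570), the row `Sp₂₂(2) < Ω₂₄⁺(2)`: fixed points on the quadratic space (helper32)
-/

set_option autoImplicit false
set_option linter.unusedSectionVars false

namespace Cfsg.Agent.SM.Co

open Cfsg Subgroup MulAction

variable {S V : Type} [Group S] [AddCommGroup V] [DistribMulAction S V] {Q : V → ZMod 2}

theorem z2 (a : ZMod 2) : a = 0 ∨ a = 1 := by revert a; decide

theorem z2add (a : ZMod 2) : a + a = 0 := by revert a; decide

theorem pol_comm (u v : V) : pol Q u v = pol Q v u := by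
  unfold pol
  rw [add_comm u v]
  ring

theorem q_add (u v : V) : Q (u + v) = Q u + Q v + pol Q u v := by
  unfold pol
  linear_combination -z2add (Q u) - z2add (Q v)

/-- the fixed points -/
def fx (V : Type) [AddCommGroup V] [DistribMulAction S V] (g : S) : AddSubgroup V where
  carrier := {w | g • w = w}
  add_mem' {a b} ha hb := by
    show g • (a + b) = a + b
    rw [smul_add, show g • a = a from ha, show g • b = b from hb]
  zero_mem' := smul_zero g
  neg_mem' {a} ha := by
    show g • (-a) = -a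
    rw [smul_neg, show g • a = a from ha]

theorem mem_fx {g : S} {w : V} : w ∈ fx V g ↔ g • w = w := Iff.rfl

theorem pow_fix {g : S} {w : V} (h : g • w = w) (i : ℕ) : g ^ i • w = w := (stabilizer S w).pow_mem h i

theorem comm_fix {g t : S} (h : Commute t g) {w : V} (hw : g • w = w) : g • t • w = t • w := by
  rw [← mul_smul, ← h.eq, mul_smul, hw]

/-- the trace -/
def tr (g : S) (n : ℕ) : V →+ V := ∑ i ∈ Finset.range n, DistribSMul.toAddMonoidHom V (g ^ i)

theorem tr_apply (g : S) (n : ℕ) (w : V) : tr g n w = ∑ i ∈ Finset.range n, g ^ i • w := by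
  unfold tr
  rw [AddMonoidHom.finsetSum_apply]
  rfl

theorem tr_fix {g : S} {n : ℕ} (hg : g ^ n = 1) (w : V) : g • tr g n w = tr g n w := by
  have h := Finset.sum_range_succ' (fun i => g ^ i • w) n
  rw [Finset.sum_range_succ, hg, pow_zero, add_left_inj] at h
  rw [tr_apply, Finset.smul_sum, h]
  exact Finset.sum_congr rfl fun i _ => by rw [← mul_smul, pow_succ']

theorem tr_comm {g t : S} (h : Commute t g) (n : ℕ) (w : V) : tr g n (t • w) = t • tr g n w := by
  rw [tr_apply, tr_apply, Finset.smul_sum]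
  exact Finset.sum_congr rfl fun i _ => by rw [← mul_smul, ← mul_smul, (h.pow_right i).eq]

theorem tr_mem {g : S} {W : AddSubgroup V} (hW : ∀ w ∈ W, g • w ∈ W) (n : ℕ) {w : V} (hw : w ∈ W) : tr g n w ∈ W := by
  rw [tr_apply]
  refine W.sum_mem fun i hi => ?_
  clear hi
  induction i with
  | zero => rwa [pow_zero, one_smul]
  | succ i ih => rw [pow_succ', mul_smul]; exact hW _ ih

/-- the fixed point congruence on an invariant set -/
theorem cong [Finite V] {g : S} {p : ℕ} (hp : p.Prime) (hg : g ^ p = 1) {F : Set V} (hF : ∀ w ∈ F, g • w ∈ F) :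
    F.ncard ≡ {w | w ∈ F ∧ g • w = w}.ncard [MOD p] := by
  classical
  have : Fact p.Prime := ⟨hp⟩
  have := Fintype.ofFinite F
  let f : Function.End F := fun w => ⟨g • w.1, hF _ w.2⟩
  have h1 : ∀ (i : ℕ) (w : F), ((f ^ i) w).1 = g ^ i • w.1 := fun i => by
    induction i with
    | zero => intro w; rw [pow_zero, pow_zero, one_smul]; rfl
    | succ i ih => intro w; rw [pow_succ, pow_succ, mul_smul]; exact ih (f w)
  have h2 := Equiv.Perm.card_fixedPoints_modEq (f := f) (p := p) (n := 1)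
    (funext fun w => Subtype.ext (by rw [pow_one, h1, hg, one_smul]; rfl))
  rw [← Nat.card_eq_fintype_card, ← Nat.card_eq_fintype_card] at h2
  have h3 : Nat.card (Function.fixedPoints f) = {w | w ∈ F ∧ g • w = w}.ncard :=
    Nat.card_congr ⟨fun w => ⟨w.1.1, w.1.2, congrArg Subtype.val w.2⟩, fun w => ⟨⟨w.1, w.2.1⟩, Subtype.ext w.2.2⟩,
      fun _ => rfl, fun _ => rfl⟩
  rwa [h3] at h2

theorem cong' [Finite V] {g : S} {p : ℕ} (hp : p.Prime) (hg : g ^ p = 1) {W : AddSubgroup V} (hW : ∀ w ∈ W, g • w ∈ W) :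
    Nat.card W ≡ Nat.card (W ⊓ fx V g : AddSubgroup V) [MOD p] := cong hp hg (F := (W : Set V)) hW

theorem cong1 [Finite V] {g : S} {p : ℕ} (hp : p.Prime) (hg : g ^ p = 1) {W : AddSubgroup V} (hW : ∀ w ∈ W, g • w ∈ W)
    (h0 : ∀ w ∈ W, g • w = w → w = 0) : Nat.card W ≡ 1 [MOD p] := by
  have h := cong' hp hg hW
  rwa [show W ⊓ fx V g = ⊥ from eq_bot_iff.2 fun w hw => h0 w hw.1 hw.2, AddSubgroup.card_bot] at h

namespace Sp

variable (h : Sp S V Q)
include h

theorem finV : Finite V := Nat.finite_of_card_ne_zero (by rw [h.card]; norm_num)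

theorem cancel {u v : V} (e : u + v = 0) : u = v := by
  rw [← add_left_inj v, e, h.two]

theorem add' (u v w : V) : pol Q u (v + w) = pol Q u v + pol Q u w := by
  rw [pol_comm, h.add, pol_comm v, pol_comm w]

theorem zero_left (w : V) : pol Q 0 w = 0 := by
  have e := h.add 0 0 w
  rwa [add_zero, z2add] at e

theorem q_zero : Q 0 = 0 := by
  have e := h.zero_left 0
  unfold pol at e
  rwa [add_zero, z2add, zero_add] at e

theorem self (w : V) : pol Q w w = 0 := by
  unfold pol
  rw [h.two, h.q_zero, zero_add, z2add]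

theorem pinv (s : S) (u v : V) : pol Q (s • u) (s • v) = pol Q u v := by
  unfold pol
  rw [← smul_add, h.inv, h.inv, h.inv]

theorem sum_right (u : V) (n : ℕ) (f : ℕ → V) : pol Q u (∑ i ∈ Finset.range n, f i) = ∑ i ∈ Finset.range n, pol Q u (f i) := by
  induction n with
  | zero => rw [Finset.sum_range_zero, Finset.sum_range_zero, pol_comm, h.zero_left]
  | succ n ih => rw [Finset.sum_range_succ, Finset.sum_range_succ, h.add', ih]

theorem pol_tr {g : S} {n : ℕ} (hn : Odd n) {u : V} (hu : g • u = u) (w : V) : pol Q u (tr g n w) = pol Q u w := by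
  rw [tr_apply, h.sum_right, Finset.sum_congr rfl fun i _ => show pol Q u (g ^ i • w) = pol Q u w by
    rw [← h.pinv (g ^ i) u w, pow_fix hu], Finset.sum_const, Finset.card_range]
  obtain ⟨k, rfl⟩ := hn
  rw [add_nsmul, one_nsmul, two_mul, add_nsmul, z2add, zero_add]

theorem tr_of_fix {g : S} {n : ℕ} (hn : Odd n) {u : V} (hu : g • u = u) : tr g n u = u := by
  rw [tr_apply, Finset.sum_congr rfl fun i _ => pow_fix hu i, Finset.sum_const, Finset.card_range]
  obtain ⟨k, rfl⟩ := hn
  rw [add_nsmul, one_nsmul, two_mul, add_nsmul, h.two, zero_add]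

/-- an element of odd order which fixes no non-singular vector is fixed point free -/
theorem fpf {g : S} {n : ℕ} (hn : Odd n) (hg : g ^ n = 1) (h1 : ∀ w, Q w = 1 → g • w ≠ w) {u : V} (hu : g • u = u) : u = 0 := by
  refine h.nd u fun w => ?_
  have h2 : ∀ w, g • w = w → Q w = 0 := fun w hw => (z2 _).resolve_right fun e => h1 w e hw
  rw [← h.pol_tr hn hu w]
  unfold pol
  rw [h2 u hu, h2 _ (tr_fix hg w), h2 _ (by rw [smul_add, hu, tr_fix hg]), add_zero, add_zero]

theorem card_pow (W : AddSubgroup V) : ∃ k ≤ 24, Nat.card W = 2 ^ k :=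
  (Nat.dvd_prime_pow Nat.prime_two).1 (h.card ▸ W.card_addSubgroup_dvd_card)

/-- `w ↦ w + a w` -/
theorem card_fx {a : S} (ha : a * a = 1) : ∃ R : AddSubgroup V, R ≤ fx V a ∧ Nat.card (fx V a) * Nat.card R = 2 ^ 24 ∧
    ∀ p, p ∈ R ↔ ∃ w, p = w + a • w := by
  let f : V →+ V := AddMonoidHom.id V + DistribSMul.toAddMonoidHom V a
  have h1 : f.ker = fx V a := AddSubgroup.ext fun w => ⟨fun e => (h.cancel (u := w) e).symm, fun e => by
    show w + a • w = 0
    rw [show a • w = w from e, h.two]⟩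
  refine ⟨f.range, ?_, ?_, fun p => ⟨fun ⟨w, e⟩ => ⟨w, e.symm⟩, fun ⟨w, e⟩ => ⟨w, e.symm⟩⟩⟩
  · rintro _ ⟨w, rfl⟩
    show a • (w + a • w) = w + a • w
    rw [smul_add, ← mul_smul, ha, one_smul, add_comm]
  · rw [← h1, ← AddSubgroup.index_ker f, AddSubgroup.card_mul_index, h.card]

theorem iso_of {a : S} {p : V} (hp : a • p = p) (w : V) : pol Q p (w + a • w) = 0 := by
  rw [h.add', ← h.pinv a p w, hp, z2add]

/-- a totally isotropic subspace of dimension 12 with a non-singular vector -/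
theorem fix_iso {W : AddSubgroup V} (hc : Nat.card W = 2 ^ 12) (hW : ∀ p ∈ W, ∀ r ∈ W, pol Q p r = 0) {v : V} (hv : v ∈ W)
    (h1 : Q v = 1) {g : S} {p : ℕ} (hp : p.Prime) (h2 : p ≠ 2) (hg : g ^ p = 1) (hi : ∀ w ∈ W, g • w ∈ W) :
    ∃ w ∈ W, Q w = 1 ∧ g • w = w := by
  have := h.finV
  by_contra h3
  have h4 := cong hp hg (F := {w | w ∈ W ∧ Q w = 1}) fun w hw => ⟨hi w hw.1, (h.inv g w).trans hw.2⟩
  rw [show {w | w ∈ {w | w ∈ W ∧ Q w = 1} ∧ g • w = w} = ∅ from
    Set.eq_empty_of_forall_notMem fun w hw => h3 ⟨w, hw.1.1, hw.1.2, hw.2⟩, Set.ncard_empty] at h4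
  have h5 : (W : Set V) = {w | w ∈ W ∧ Q w = 1} ∪ (fun w => v + w) '' {w | w ∈ W ∧ Q w = 1} := by
    ext w
    constructor
    · intro hw
      rcases z2 (Q w) with e | e
      · exact Or.inr ⟨v + w, ⟨W.add_mem hv hw, by rw [q_add (Q := Q), h1, e, hW v hv w hw]; rfl⟩, by
          show v + (v + w) = w
          rw [← add_assoc, h.two, zero_add]⟩
      · exact Or.inl ⟨hw, e⟩
    · rintro (hw | ⟨w, hw, rfl⟩)
      · exact hw.1
      · exact W.add_mem hv hw.1
  have h6 : (W : Set V).ncard = 2 ^ 12 := hc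
  rw [h5, Set.ncard_union_eq (Set.disjoint_left.2 ?_), Set.ncard_image_of_injective _ (add_right_injective v)] at h6
  · have h7 : p ∣ 2 ^ 12 := h6 ▸ (Nat.modEq_zero_iff_dvd.1 h4).add (Nat.modEq_zero_iff_dvd.1 h4)
    exact h2 ((Nat.prime_dvd_prime_iff_eq hp Nat.prime_two).1 (hp.dvd_of_dvd_pow h7))
  · rintro _ hw ⟨w, hw', rfl⟩
    have h7 := hw.2
    rw [q_add (Q := Q), h1, hw'.2, hW v hv w hw'.1] at h7
    exact absurd h7 (by decide)

/-- an involution which commutes with a fixed point free element of order 13 fixes no non-singular vector -/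
theorem no_fix13 {a t : S} (ha : a * a = 1) (ha1 : a ≠ 1) (ht : t ^ 13 = 1) (hc : Commute t a) (h1 : ∀ w, Q w = 1 → t • w ≠ w)
    {v : V} (hv : Q v = 1) : a • v ≠ v := fun hav => by
  have := h.finV
  obtain ⟨R, h2, h3, h4⟩ := h.card_fx ha
  have hi : ∀ w ∈ fx V a, t • w ∈ fx V a := fun w hw => comm_fix hc hw
  have h5 := cong1 (by norm_num) ht hi fun w _ hw => h.fpf (by decide) ht h1 hw
  obtain ⟨k, hk, h6⟩ := h.card_pow (fx V a)
  have h7 := AddSubgroup.card_le_of_le h2
  rw [h6] at h5 h3 h7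
  rcases (by decide : ∀ k ≤ 24, 2 ^ k ≡ 1 [MOD 13] → k = 0 ∨ k = 12 ∨ k = 24) k hk h5 with rfl | rfl | rfl
  · omega
  · have h8 : R = fx V a := AddSubgroup.eq_of_le_of_card_ge h2 (by omega)
    obtain ⟨w, -, h9, h10⟩ := h.fix_iso h6 (fun p hp r hr => by
      obtain ⟨w, rfl⟩ := (h4 r).1 (h8 ▸ hr)
      exact h.iso_of hp w) hav hv (by norm_num) (by norm_num) ht hi
    exact h1 w h9 h10
  · have h8 : fx V a = ⊤ := AddSubgroup.eq_top_of_card_eq _ (h6.trans h.card.symm)
    exact ha1 (h.faith a fun w => (h8 ▸ AddSubgroup.mem_top w : w ∈ fx V a))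

end Sp

/-- `y` is a fixed point free element of order 3 inverted by the involution `a` -/
structure Sm (V : Type) [AddCommGroup V] [DistribMulAction S V] (a y : S) : Prop where
  two : a * a = 1
  cub : ∀ w : V, y • y • w = y • w + w
  inv : ∀ w : V, a • y • w = y • y • a • w

namespace Sp

variable (h : Sp S V Q) {a y : S} (m : Sm V a y)
include h m

theorem sm_add {p : V} (hp : a • p = p) : y • p + a • y • p = p := by
  rw [m.inv, hp, m.cub, ← add_assoc, h.two, zero_add]

theorem sm_iso {p r : V} (hp : a • p = p) (hr : a • r = r) : pol Q p r = 0 := by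
  rw [← h.sm_add m hr]
  exact h.iso_of hp _

theorem sm_card : Nat.card (fx V a) = 2 ^ 12 := by
  obtain ⟨R, h2, h3, h4⟩ := h.card_fx m.two
  rw [le_antisymm h2 fun p hp => (h4 p).2 ⟨_, (h.sm_add m hp).symm⟩] at h3
  exact Nat.mul_self_inj.1 (h3.trans (by norm_num))

theorem sm_dec (w : V) : ∃ p r : V, a • p = p ∧ a • r = r ∧ w = y • p + r := by
  have h1 : ∀ w : V, a • (w + a • w) = w + a • w := fun w => by rw [smul_add, ← mul_smul, m.two, one_smul, add_comm]
  refine ⟨w + a • w, (w + a • w) + (y • w + a • y • w), h1 w, by rw [smul_add, h1, h1], ?_⟩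
  rw [m.inv, m.cub, smul_add]
  have e1 := h.two (y • w)
  have e2 := h.two (y • a • w)
  have e3 := h.two (a • w)
  calc w = w + (y • w + y • w) + (y • a • w + y • a • w) + (a • w + a • w) := by rw [e1, e2, e3, add_zero, add_zero, add_zero]
    _ = _ := by abel

/-- the form `(p, r) ↦ pol (y p) r` on the fixed points of `a` -/
theorem sm_sym {p r : V} (hp : a • p = p) (hr : a • r = r) : pol Q (y • p) r = pol Q (y • r) p := by
  rw [← h.pinv y (y • p) r, m.cub, h.add, h.pinv, h.sm_iso m hp hr, zero_add, pol_comm]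

theorem sm_q (p : V) : pol Q (y • p) p = Q p := by
  unfold pol
  rw [← m.cub, h.inv, h.inv, z2add, zero_add]

theorem sm_nd {u : V} (hu : a • u = u) (h0 : ∀ p, a • p = p → pol Q (y • p) u = 0) : u = 0 := by
  refine h.nd u fun w => ?_
  obtain ⟨p, r, hp, hr, rfl⟩ := h.sm_dec m w
  rw [h.add', pol_comm, h0 p hp, h.sm_iso m hu hr, add_zero]

variable {z : S} (n : Sm V a z)
include n

theorem sm_diff {p : V} (hp : a • p = p) : a • (y • p + z • p) = y • p + z • p := by
  rw [smul_add, m.inv, n.inv, hp, m.cub, n.cub, add_add_add_comm, h.two, add_zero]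

theorem sm_ext (e : ∀ p : V, a • p = p → y • p = z • p) : y = z := by
  have h1 : ∀ w : V, y • w = z • w := fun w => by
    obtain ⟨p, r, hp, hr, rfl⟩ := h.sm_dec m w
    rw [smul_add, smul_add, m.cub, e r hr, e p hp, n.cub]
  exact (inv_mul_eq_one.1 (h.faith (z⁻¹ * y) fun w => by rw [mul_smul, h1, inv_smul_smul])).symm

theorem sm_split (p : V) : z • p = y • p + (y • p + z • p) := by rw [← add_assoc, h.two, zero_add]

theorem sm_dq (p : V) : Q (y • p + z • p) = pol Q (y • p) (y • p + z • p) := by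
  have h1 := h.inv z p
  rw [h.sm_split m n p, q_add (Q := Q), h.inv] at h1
  linear_combination h1 - z2add (pol Q (y • p) (y • p + z • p))

end Sp

end Cfsg.Agent.SM.Co
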