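import Cfsg.Agent.SM.Co.Glue
import Cfsg.Agent.SM.Co.Grp

/-!
# SM (S3570), the row `Sp₂₂(2) < Ω₂₄⁺(2)`: at most eight overgroups (helper58)
-/

namespace Cfsg.Agent.SM.Co

theorem boxCo : CS.BoxCo 8 := boxCo_of boxLin

end Cfsg.Agent.SM.Co
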